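import Mathlib
import Cfsg.Prelude.Def_Characters
import Cfsg.Agent.Lib.Helper2.Induction
import Cfsg.Agent.Lib.Helper2.CharOps
import Cfsg.Agent.Lib.Helper2.Inflation
import Cfsg.Agent.Lib.Helper13.Clifford1
import Cfsg.Agent.Lib.Lead.GenChar

set_option autoImplicit false

namespace Cfsg.Agent.Lib.Helper23.IndTools

open Cfsg.Agent.Lib.Helper2 Cfsg.Agent.Lib.Helper13 Cfsg.Agent.Lib.Lead

section gen

variable {G : Type*} [Group G]

theorem genChar_of_char {χ : G → ℂ} (h : Cfsg.IsCharacter G χ) :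
    Cfsg.IsGeneralizedCharacter G χ :=
  ⟨χ, 0, h, isCharacter_zero, by simp⟩

theorem genChar_zero : Cfsg.IsGeneralizedCharacter G (0 : G → ℂ) :=
  genChar_of_char isCharacter_zero

theorem genChar_add {a b : G → ℂ} (ha : Cfsg.IsGeneralizedCharacter G a)
    (hb : Cfsg.IsGeneralizedCharacter G b) : Cfsg.IsGeneralizedCharacter G (a + b) := by
  obtain ⟨a1, a2, h1, h2, rfl⟩ := ha
  obtain ⟨b1, b2, h3, h4, rfl⟩ := hb
  exact ⟨a1 + b1, a2 + b2, IsCharacter.add h1 h3, IsCharacter.add h2 h4, by ring⟩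

theorem genChar_neg {a : G → ℂ} (ha : Cfsg.IsGeneralizedCharacter G a) :
    Cfsg.IsGeneralizedCharacter G (-a) := by
  obtain ⟨a1, a2, h1, h2, rfl⟩ := ha
  exact ⟨a2, a1, h2, h1, by ring⟩

theorem genChar_sub {a b : G → ℂ} (ha : Cfsg.IsGeneralizedCharacter G a)
    (hb : Cfsg.IsGeneralizedCharacter G b) : Cfsg.IsGeneralizedCharacter G (a - b) := by
  rw [sub_eq_add_neg]; exact genChar_add ha (genChar_neg hb)

theorem genChar_nsmul (n : ℕ) {a : G → ℂ} (ha : Cfsg.IsGeneralizedCharacter G a) :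
    Cfsg.IsGeneralizedCharacter G ((n : ℂ) • a) := by
  induction n with
  | zero => simpa using genChar_zero
  | succ n ih =>
    have : ((n + 1 : ℕ) : ℂ) • a = (n : ℂ) • a + a := by
      push_cast; rw [add_smul, one_smul]
    rw [this]; exact genChar_add ih ha

theorem genChar_zsmul (n : ℤ) {a : G → ℂ} (ha : Cfsg.IsGeneralizedCharacter G a) :
    Cfsg.IsGeneralizedCharacter G ((n : ℂ) • a) := by
  obtain ⟨m, rfl | rfl⟩ := n.eq_nat_or_neg
  · simpa using genChar_nsmul m ha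
  · have : (((-(m : ℤ)) : ℤ) : ℂ) • a = -((m : ℂ) • a) := by
      push_cast; rw [neg_smul]
    rw [this]; exact genChar_neg (genChar_nsmul m ha)

theorem genChar_sum {ι : Type*} (s : Finset ι) {a : ι → G → ℂ}
    (h : ∀ i ∈ s, Cfsg.IsGeneralizedCharacter G (a i)) :
    Cfsg.IsGeneralizedCharacter G (∑ i ∈ s, a i) := by
  classical
  induction s using Finset.induction_on with
  | empty => simpa using genChar_zero
  | insert i s hi ih =>
    rw [Finset.sum_insert hi]
    exact genChar_add (h i (Finset.mem_insert_self _ _))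
      (ih fun j hj => h j (Finset.mem_insert_of_mem hj))

theorem genChar_mul {a b : G → ℂ} (ha : Cfsg.IsGeneralizedCharacter G a)
    (hb : Cfsg.IsGeneralizedCharacter G b) : Cfsg.IsGeneralizedCharacter G (a * b) := by
  obtain ⟨a1, a2, h1, h2, rfl⟩ := ha
  obtain ⟨b1, b2, h3, h4, rfl⟩ := hb
  exact ⟨a1 * b1 + a2 * b2, a1 * b2 + a2 * b1,
    IsCharacter.add (IsCharacter.mul h1 h3) (IsCharacter.mul h2 h4),
    IsCharacter.add (IsCharacter.mul h1 h4) (IsCharacter.mul h2 h3), by ring⟩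

theorem genChar_restrict (H : Subgroup G) {a : G → ℂ} (ha : Cfsg.IsGeneralizedCharacter G a) :
    Cfsg.IsGeneralizedCharacter H (fun h : H => a h) := by
  obtain ⟨a1, a2, h1, h2, rfl⟩ := ha
  exact ⟨_, _, IsCharacter.restrict H h1, IsCharacter.restrict H h2, rfl⟩

theorem genChar_comp_hom {H : Type*} [Group H] (f : H →* G) {a : G → ℂ}
    (ha : Cfsg.IsGeneralizedCharacter G a) : Cfsg.IsGeneralizedCharacter H (fun h : H => a (f h)) := by
  obtain ⟨a1, a2, h1, h2, rfl⟩ := ha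
  exact ⟨_, _, IsCharacter.comp_hom f h1, IsCharacter.comp_hom f h2, rfl⟩

theorem genChar_indFun [Fintype G] (H : Subgroup G) {a : H → ℂ}
    (ha : Cfsg.IsGeneralizedCharacter H a) : Cfsg.IsGeneralizedCharacter G (Cfsg.indFun H a) := by
  obtain ⟨a1, a2, h1, h2, rfl⟩ := ha
  exact ⟨_, _, IsCharacter.indFun H h1, IsCharacter.indFun H h2, indFun_sub H a1 a2⟩

end gen

variable {G : Type*} [Group G] [Fintype G]

theorem indFun_congr_subgroup {K₁ K₂ : Subgroup G} (h : K₁ = K₂) (φ₁ : K₁ → ℂ) (φ₂ : K₂ → ℂ)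
    (hφ : ∀ x (h1 : x ∈ K₁) (h2 : x ∈ K₂), φ₁ ⟨x, h1⟩ = φ₂ ⟨x, h2⟩) :
    Cfsg.indFun K₁ φ₁ = Cfsg.indFun K₂ φ₂ := by
  subst h
  congr 1
  funext ⟨x, hx⟩
  exact hφ x hx hx

theorem indFun_indFun_map (T : Subgroup G) [Fintype T] (K' : Subgroup T) (φ : K' → ℂ) :
    Cfsg.indFun T (Cfsg.indFun K' φ) = Cfsg.indFun (K'.map T.subtype)
      (fun x => φ ((K'.equivMapOfInjective T.subtype T.subtype_injective).symm x)) := by
  rw [← indFun_trans (K'.map T.subtype) T (Subgroup.map_subtype_le K')]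
  congr 1
  apply indFun_congr_subgroup
  · exact (Subgroup.comap_map_eq_self_of_injective T.subtype_injective K').symm
  · intro x h1 h2
    unfold toSubgroupOf
    congr 1
    apply (K'.equivMapOfInjective T.subtype T.subtype_injective).injective
    rw [MulEquiv.apply_symm_apply]
    rfl

theorem indFun_top {θ : G → ℂ} (hθ : Cfsg.IsClassFunction G θ) :
    Cfsg.indFun (⊤ : Subgroup G) (fun x => θ x) = θ := by
  funext g
  unfold Cfsg.indFun
  have h1 : ∀ x : G, Cfsg.extendByZero (⊤ : Subgroup G) (fun x => θ x) (x⁻¹ * g * x) = θ g := by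
    intro x
    rw [extendByZero_mem _ _ (Subgroup.mem_top _)]
    have := hθ g x⁻¹
    rwa [inv_inv] at this
  simp only [h1]
  rw [Finset.sum_const, Finset.card_univ, ← Nat.card_eq_fintype_card, nsmul_eq_mul,
    Subgroup.card_top]
  have : (Nat.card G : ℂ) ≠ 0 := by
    have : 0 < Nat.card G := Nat.card_pos
    exact_mod_cast this.ne'
  field_simp

theorem card_comap_mk (N : Subgroup G) [N.Normal] (H : Subgroup (G ⧸ N)) :
    Nat.card (H.comap (QuotientGroup.mk' N)) = Nat.card N * Nat.card H := by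
  have h1 := Subgroup.index_comap_of_surjective H (QuotientGroup.mk'_surjective N)
  have h2 := (H.comap (QuotientGroup.mk' N)).card_mul_index
  have h3 := H.card_mul_index
  have h4 := N.card_mul_index
  rw [h1] at h2
  have h5 : N.index = Nat.card (G ⧸ N) := rfl
  rw [h5, ← h3, ← mul_assoc] at h4
  rw [← h4] at h2
  have hpos : 0 < H.index := Nat.pos_of_ne_zero (Subgroup.index_ne_zero_of_finite)
  exact Nat.eq_of_mul_eq_mul_right hpos h2

theorem indFun_comap_mk (N : Subgroup G) [N.Normal] [Fintype (G ⧸ N)] (H : Subgroup (G ⧸ N))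
    (θ : H → ℂ) (g : G) :
    Cfsg.indFun (H.comap (QuotientGroup.mk' N)) (fun x => θ ⟨QuotientGroup.mk' N x.1, x.2⟩) g
      = Cfsg.indFun H θ (g : G ⧸ N) := by
  unfold Cfsg.indFun
  have h1 : ∀ y : G, Cfsg.extendByZero (H.comap (QuotientGroup.mk' N))
      (fun x => θ ⟨QuotientGroup.mk' N x.1, x.2⟩) y = Cfsg.extendByZero H θ (y : G ⧸ N) := by
    intro y
    by_cases hy : (y : G ⧸ N) ∈ H
    · rw [extendByZero_mem H _ hy, extendByZero_mem (H.comap (QuotientGroup.mk' N)) _ hy]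
      rfl
    · rw [extendByZero_not_mem H _ hy, extendByZero_not_mem (H.comap (QuotientGroup.mk' N)) _ hy]
  simp only [h1]
  have h2 := sum_comp_mk N (fun q : G ⧸ N => Cfsg.extendByZero H θ (q⁻¹ * (g : G ⧸ N) * q))
  have h3 : ∀ x : G, ((x⁻¹ * g * x : G) : G ⧸ N) = (x : G ⧸ N)⁻¹ * (g : G ⧸ N) * (x : G ⧸ N) :=
    fun x => rfl
  simp only [h3]
  rw [h2, card_comap_mk, nsmul_eq_mul]
  have h4 : (Nat.card N : ℂ) ≠ 0 := card_subgroup_ne_zero N
  have h5 : (Nat.card H : ℂ) ≠ 0 := by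
    have : 0 < Nat.card H := Nat.card_pos
    exact_mod_cast this.ne'
  push_cast
  field_simp

end Cfsg.Agent.Lib.Helper23.IndTools
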