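import Mathlib
import Cfsg.Prelude.Def_Characters
import Cfsg.Agent.Lib.Helper23.IndTools
import Cfsg.Agent.Lib.Helper13.Clifford2
import Cfsg.Agent.Lib.Helper24.BurnsideCoprime
import Cfsg.Agent.Lib.Helper24.Central
import Cfsg.Agent.Lib.Helper24.Constituent
import Cfsg.Agent.S0174
import Cfsg.Agent.Lib.Helper2.Linear

set_option autoImplicit false

namespace Cfsg.Agent.Lib.Helper23.Monomial

open Cfsg.Agent.Lib.Helper2 Cfsg.Agent.Lib.Helper13 Cfsg.Agent.Lib.Lead Cfsg.Agent.Lib.Helper24
open Cfsg.Agent.Lib.Helper23.IndTools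

universe u

section inertia

variable {G : Type u} [Group G]

/-- the inertia group -/
def inertia (H : Subgroup G) [H.Normal] (θ : H → ℂ) : Subgroup G where
  carrier := {g | conjFun H g θ = θ}
  one_mem' := conjFun_one H θ
  mul_mem' := by
    intro a b ha hb
    change conjFun H (a * b) θ = θ
    rw [conjFun_mul, show conjFun H b θ = θ from hb, show conjFun H a θ = θ from ha]
  inv_mem' := by
    intro a ha
    exact (conjFun_inv_eq_iff H θ a).2 ha

theorem mem_inertia (H : Subgroup G) [H.Normal] (θ : H → ℂ) (g : G) :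
    g ∈ inertia H θ ↔ conjFun H g θ = θ := Iff.rfl

variable [Fintype G]

/-- an irreducible character is induced from a proper subgroup, or each constituent of its
restriction to a normal subgroup is invariant. -/
theorem invariant_or_induced (N : Subgroup G) [N.Normal] [Fintype N] {χ : G → ℂ}
    (hχ : Cfsg.IsIrrCharacter G χ) {θ : N → ℂ} (hθ : Cfsg.IsIrrCharacter N θ)
    (hcon : Cfsg.classInner (fun n : N => χ n) θ ≠ 0) :
    (∀ g, conjFun N g θ = θ) ∨
      ∃ (T : Subgroup G) (ψ : T → ℂ), T ≠ ⊤ ∧ Cfsg.IsIrrCharacter T ψ ∧ Cfsg.indFun T ψ = χ := by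
  classical
  by_cases h : inertia N θ = ⊤
  · left
    intro g
    rw [← mem_inertia, h]; exact Subgroup.mem_top g
  · right
    obtain ⟨ψ, h1, h2, -⟩ := clifford_surj N hθ (inertia N θ) (mem_inertia N θ)
      (le_inertia N hθ _ (mem_inertia N θ)) hχ hcon
    exact ⟨_, ψ, h, h1, h2⟩

theorem restrict_eq_smul_of_invariant (N : Subgroup G) [hN : N.Normal] [Fintype N] {χ : G → ℂ}
    (hχ : Cfsg.IsIrrCharacter G χ) {θ : N → ℂ} (hθ : Cfsg.IsIrrCharacter N θ)
    (hcon : Cfsg.classInner (fun n : N => χ n) θ ≠ 0) (hinv : ∀ g, conjFun N g θ = θ) :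
    (fun n : N => χ n) = Cfsg.classInner (fun n : N => χ n) θ • θ := by
  have h := Cfsg.Agent.S0174.result N hN χ hχ θ hθ hcon
  have hS : {ψ : N → ℂ | ∃ g : G, ψ = fun n : N => θ ⟨g * n * g⁻¹, hN.conj_mem n n.2 g⟩} = {θ} := by
    ext ψ
    simp only [Set.mem_ofPred_eq, Set.mem_singleton_iff]
    constructor
    · rintro ⟨g, rfl⟩
      rw [stmtConj_eq]; exact hinv _
    · rintro rfl
      refine ⟨1, ?_⟩
      rw [stmtConj_eq]; exact (hinv _).symm
  rw [hS, finsum_mem_singleton] at h
  exact h

end inertia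

theorem exists_second_center {G : Type u} [Group G] [hG : Group.IsNilpotent G]
    (h : Subgroup.center G ≠ ⊤) :
    ∃ a : G, a ∉ Subgroup.center G ∧ ∀ g : G, a * g * a⁻¹ * g⁻¹ ∈ Subgroup.center G := by
  by_contra hcon
  push Not at hcon
  apply h
  obtain ⟨n, hn⟩ := (Group.isNilpotent_iff G).1 hG
  have key : ∀ k, Subgroup.upperCentralSeries G k ≤ Subgroup.center G := by
    intro k
    induction k with
    | zero => simp
    | succ k ih =>
      intro x hx
      by_contra hx'
      obtain ⟨g, hg⟩ := hcon x hx'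
      apply hg
      exact ih (Subgroup.mem_upperCentralSeries_succ_iff.1 hx g)
  rw [eq_top_iff, ← hn]
  exact key n

theorem centralizer_normal_of_second_center {G : Type u} [Group G] (a : G)
    (ha : ∀ g : G, a * g * a⁻¹ * g⁻¹ ∈ Subgroup.center G) :
    (Subgroup.centralizer ({a} : Set G)).Normal := by
  constructor
  intro h hh g
  rw [Subgroup.mem_centralizer_singleton_iff] at hh ⊢
  have hz : g⁻¹ * a * g * a⁻¹ ∈ Subgroup.center G := by
    have := Subgroup.inv_mem _ (ha g⁻¹)
    simpa [mul_assoc] using this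
  have hw : Commute h (g⁻¹ * a * g) := by
    have h1 : g⁻¹ * a * g = (g⁻¹ * a * g * a⁻¹) * a := by group
    rw [h1]
    exact Commute.mul_right ((Subgroup.mem_center_iff.1 hz h)) hh
  have := (Commute.conj_iff g).2 hw
  have h2 : g * (g⁻¹ * a * g) * g⁻¹ = a := by group
  rw [h2] at this
  exact this

theorem degree_one_of_center_eq_top {G : Type u} [Group G] [Finite G]
    (h : Subgroup.center G = ⊤) {χ : G → ℂ} (hχ : Cfsg.IsIrrCharacter G χ) : χ 1 = 1 := by
  have h1 := card_center_mul_degree_sq_le hχ
  rw [h, Subgroup.card_top] at h1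
  have h2 : 0 < Nat.card G := Nat.card_pos
  have h3 : Cfsg.charDegree χ ^ 2 ≤ 1 := by
    by_contra hc
    push Not at hc
    nlinarith
  have h4 := charDegree_pos hχ
  have h5 : Cfsg.charDegree χ = 1 := by nlinarith
  rw [← charDegree_cast (IsIrrCharacter.isCharacter hχ), h5]; simp

/-- **Nilpotent groups are M-groups.** -/
theorem monomial_aux : ∀ (n : ℕ) (G : Type u) [Group G] [Fintype G] [Group.IsNilpotent G],
    Nat.card G = n → ∀ χ : G → ℂ, Cfsg.IsIrrCharacter G χ →
      ∃ (H : Subgroup G) (lam : H →* ℂˣ), χ = Cfsg.indFun H (fun h => (lam h : ℂ)) := by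
  intro n
  induction n using Nat.strong_induction_on with
  | _ n ih =>
  intro G _ _ _ hn χ hχ
  classical
  have hχc := IsIrrCharacter.isCharacter hχ
  by_cases hK : kerOf hχc = ⊥
  · -- faithful
    have hfaith : ∀ g : G, χ g = χ 1 → g = 1 := by
      intro g hg
      have : g ∈ kerOf hχc := (mem_kerOf hχc g).2 hg
      rw [hK] at this
      exact this
    by_cases hZ : Subgroup.center G = ⊤
    · obtain ⟨lam, hlam⟩ := exists_hom_of_degree_one hχc (degree_one_of_center_eq_top hZ hχ)
      refine ⟨⊤, lam.comp (⊤ : Subgroup G).subtype, ?_⟩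
      have := indFun_top (IsCharacter.isClassFunction hχc)
      rw [← this]
      congr 1
      funext x
      rw [hlam]; rfl
    · obtain ⟨a, ha, ha2⟩ := exists_second_center hZ
      haveI := centralizer_normal_of_second_center a ha2
      set A := Subgroup.centralizer ({a} : Set G) with hA
      have hres : Cfsg.IsCharacter A (fun n : A => χ n) := IsCharacter.restrict A hχc
      obtain ⟨θ, hθ⟩ := exists_constituent hres (Cfsg.Agent.Lib.Helper6.irr_one_ne_zero hχ)
      rcases invariant_or_induced A hχ θ.2 hθ with hinv | ⟨T, ψ, hT, hψ, hind⟩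
      · exfalso
        apply ha
        have h1 := restrict_eq_smul_of_invariant A hχ θ.2 hθ hinv
        have haA : a ∈ A := by rw [hA, Subgroup.mem_centralizer_singleton_iff]
        have hcen : (⟨a, haA⟩ : A) ∈ Subgroup.center A := by
          rw [Subgroup.mem_center_iff]
          rintro ⟨b, hb⟩
          apply Subtype.ext
          rw [hA, Subgroup.mem_centralizer_singleton_iff] at hb
          exact hb
        have h2 := norm_central θ.2 hcen
        have h3 : ‖χ a‖ = ‖χ 1‖ := by
          have e1 := congrFun h1 ⟨a, haA⟩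
          have e2 := congrFun h1 1
          simp only [Pi.smul_apply, smul_eq_mul] at e1 e2
          have e3 : χ ((1 : A) : G) = χ 1 := rfl
          rw [e3] at e2
          rw [e1, e2, norm_mul, norm_mul, h2]
        apply mem_center_of_norm_eq hχc hfaith
        rw [h3, ← charDegree_cast hχc]
        simp
      · have hlt : Nat.card T < n := by
          rw [← hn]
          by_contra hc
          push Not at hc
          exact hT (Subgroup.eq_top_of_card_eq T (le_antisymm (Subgroup.card_le_card_group T) hc))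
        obtain ⟨H', lam', h'⟩ := ih _ hlt T rfl ψ hψ
        refine ⟨H'.map T.subtype, lam'.comp
          (H'.equivMapOfInjective T.subtype T.subtype_injective).symm.toMonoidHom, ?_⟩
        rw [← hind, h', indFun_indFun_map]
        rfl
  · -- not faithful
    haveI := kerOf_normal hχc
    set K := kerOf hχc with hKdef
    letI : Fintype (G ⧸ K) := Fintype.ofFinite _
    obtain ⟨ψ, hψ, hψχ⟩ := IsIrrCharacter.deflate K hχ (fun k hk => (mem_kerOf hχc k).1 hk)
    have hlt : Nat.card (G ⧸ K) < n := by
      rw [← hn, ← K.card_mul_index]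
      have h1 : K.index = Nat.card (G ⧸ K) := rfl
      rw [h1]
      have h2 : 1 < Nat.card K := by
        rw [Finite.one_lt_card_iff_nontrivial]
        exact (Subgroup.nontrivial_iff_ne_bot K).2 hK
      have h3 : 0 < Nat.card (G ⧸ K) := Nat.card_pos
      nlinarith
    obtain ⟨H', lam', h'⟩ := ih _ hlt (G ⧸ K) rfl ψ hψ
    refine ⟨H'.comap (QuotientGroup.mk' K), lam'.comp ((QuotientGroup.mk' K).subgroupComap H'), ?_⟩
    funext g
    rw [← hψχ g, h']
    exact (indFun_comap_mk K H' (fun h => (lam' h : ℂ)) g).symm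

theorem monomial_of_nilpotent {G : Type u} [Group G] [Fintype G] [Group.IsNilpotent G]
    (χ : G → ℂ) (hχ : Cfsg.IsIrrCharacter G χ) :
    ∃ (H : Subgroup G) (lam : H →* ℂˣ), χ = Cfsg.indFun H (fun h => (lam h : ℂ)) :=
  monomial_aux _ G rfl χ hχ

end Cfsg.Agent.Lib.Helper23.Monomial
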