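import Mathlib
import Cfsg.Prelude.Def_Characters
import Cfsg.Agent.Lib.Helper2.Induction

set_option autoImplicit false

open MulAction

namespace Cfsg.Agent.Lib.Helper23.Solomon

universe u v w

variable {G : Type u} [Group G]

/-- integer valued permutation character of a `G`-set -/
noncomputable def fixCount (X : Type v) [MulAction G X] (g : G) : ℤ :=
  (Nat.card (fixedBy X g) : ℤ)

theorem mem_fixedBy_quotient (H : Subgroup G) (g y : G) :
    ((y : G ⧸ H) ∈ fixedBy (G ⧸ H) g) ↔ (y⁻¹ * g * y ∈ H) := by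
  rw [mem_fixedBy]
  have : g • (y : G ⧸ H) = ((g * y : G) : G ⧸ H) := rfl
  rw [this, eq_comm, QuotientGroup.eq, mul_assoc]

theorem card_conj_mem (H : Subgroup G) (g : G) :
    Nat.card {y : G // y⁻¹ * g * y ∈ H} = Nat.card (fixedBy (G ⧸ H) g) * Nat.card H := by
  rw [← Nat.card_prod]
  apply Nat.card_congr
  let e := Subgroup.groupEquivQuotientProdSubgroup (s := H)
  have he : ∀ y, (e y).1 = (y : G ⧸ H) := fun y => rfl
  refine (e.subtypeEquiv (q := fun z => z.1 ∈ fixedBy (G ⧸ H) g) ?_).trans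
    Equiv.prodSubtypeFstEquivSubtypeProd
  intro y
  rw [he, mem_fixedBy_quotient]

theorem indFun_one_eq [Fintype G] (H : Subgroup G) (g : G) :
    Cfsg.indFun H (fun _ => 1) g = ((fixCount (G ⧸ H) g : ℤ) : ℂ) := by
  classical
  unfold Cfsg.indFun fixCount
  have h1 : ∀ x : G, Cfsg.extendByZero H (fun _ => (1 : ℂ)) (x⁻¹ * g * x)
      = if x⁻¹ * g * x ∈ H then 1 else 0 := by
    intro x
    split_ifs with h
    · rw [Cfsg.Agent.Lib.Helper2.extendByZero_mem H _ h]
    · rw [Cfsg.Agent.Lib.Helper2.extendByZero_not_mem H _ h]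
  simp only [h1]
  rw [Finset.sum_boole]
  have h2 : ((Finset.univ.filter fun x : G => x⁻¹ * g * x ∈ H).card)
      = Nat.card {y : G // y⁻¹ * g * y ∈ H} := by
    rw [Nat.card_eq_fintype_card, Fintype.card_subtype]
  rw [h2, card_conj_mem]
  have h3 : (Nat.card H : ℂ) ≠ 0 := by
    have : 0 < Nat.card H := Nat.card_pos
    exact_mod_cast this.ne'
  push_cast
  field_simp

theorem fixCount_prod (X : Type v) (Y : Type w) [MulAction G X] [MulAction G Y] (g : G) :
    fixCount (X × Y) g = fixCount X g * fixCount Y g := by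
  unfold fixCount
  rw [← Nat.cast_mul, ← Nat.card_prod]
  congr 1
  apply Nat.card_congr
  exact
    { toFun := fun z => (⟨z.1.1, congrArg Prod.fst z.2⟩, ⟨z.1.2, congrArg Prod.snd z.2⟩)
      invFun := fun z => ⟨(z.1.1, z.2.1), Prod.ext z.1.2 z.2.2⟩
      left_inv := fun z => rfl
      right_inv := fun z => rfl }

/-- fixed points in an orbit -/
theorem card_fixedBy_orbit (X : Type v) [MulAction G X] (x₀ : X) (g : G) :
    Nat.card {x : X // g • x = x ∧ x ∈ orbit G x₀}
      = Nat.card (fixedBy (G ⧸ stabilizer G x₀) g) := by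
  symm
  apply Nat.card_congr
  refine Equiv.ofBijective (fun q => ⟨ofQuotientStabilizer G x₀ q.1, ?_, ?_⟩) ⟨?_, ?_⟩
  · rw [← ofQuotientStabilizer_smul, q.2]
  · obtain ⟨q, hq⟩ := q
    induction q using QuotientGroup.induction_on with
    | H y => exact ⟨y, rfl⟩
  · intro q q' h
    apply Subtype.ext
    apply injective_ofQuotientStabilizer G x₀
    exact congrArg Subtype.val h
  · rintro ⟨x, hx, y, rfl⟩
    refine ⟨⟨(y : G ⧸ stabilizer G x₀), ?_⟩, rfl⟩
    apply injective_ofQuotientStabilizer G x₀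
    rw [ofQuotientStabilizer_smul]
    exact hx

theorem fixCount_eq_sum_orbits (X : Type v) [MulAction G X] [Finite X] (g : G) :
    letI : Fintype (orbitRel.Quotient G X) := Fintype.ofFinite _
    fixCount X g = ∑ ω : orbitRel.Quotient G X,
      fixCount (G ⧸ stabilizer G (Quotient.out ω)) g := by
  letI : Fintype (orbitRel.Quotient G X) := Fintype.ofFinite _
  unfold fixCount
  rw [← Nat.cast_sum]
  congr 1
  let f : fixedBy X g → orbitRel.Quotient G X := fun x => Quotient.mk'' x.1
  rw [← Nat.card_congr (Equiv.sigmaFiberEquiv f), Nat.card_sigma]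
  apply Finset.sum_congr rfl
  intro ω _
  rw [← card_fixedBy_orbit]
  apply Nat.card_congr
  have key : ∀ x : X, (Quotient.mk'' x : orbitRel.Quotient G X) = ω ↔
      x ∈ orbit G (Quotient.out ω) := by
    intro x
    rw [← orbitRel_apply]
    constructor
    · intro h
      have : (Quotient.mk'' x : orbitRel.Quotient G X) = Quotient.mk'' (Quotient.out ω) := by
        rw [h]; exact (Quotient.out_eq' ω).symm
      exact Quotient.eq''.1 this
    · intro h
      have := Quotient.eq''.2 h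
      rw [this]; exact Quotient.out_eq' ω
  exact
    { toFun := fun z => ⟨z.1.1, z.1.2, (key _).1 z.2⟩
      invFun := fun z => ⟨⟨z.1, z.2.1⟩, (key _).2 z.2.2⟩
      left_inv := fun z => rfl
      right_inv := fun z => rfl }

/-- the `ℤ`-span of the permutation characters `(1_H)^G`, `H` in the family `𝓗`. -/
noncomputable def permSpan (𝓗 : Subgroup G → Prop) : Submodule ℤ (G → ℤ) :=
  Submodule.span ℤ {f | ∃ H, 𝓗 H ∧ f = fixCount (G ⧸ H)}

theorem fixCount_mem_permSpan (𝓗 : Subgroup G → Prop) (X : Type v) [MulAction G X] [Finite X]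
    (h : ∀ x : X, 𝓗 (stabilizer G x)) : (fixCount X : G → ℤ) ∈ permSpan 𝓗 := by
  let _ : Fintype (orbitRel.Quotient G X) := Fintype.ofFinite _
  have : (fixCount X : G → ℤ) = ∑ ω : orbitRel.Quotient G X,
      (fixCount (G ⧸ stabilizer G (Quotient.out ω)) : G → ℤ) := by
    funext g
    rw [Finset.sum_apply]
    exact fixCount_eq_sum_orbits X g
  rw [this]
  apply Submodule.sum_mem
  intro ω _
  exact Submodule.subset_span ⟨_, h _, rfl⟩

theorem permSpan_mono {𝓗 𝓚 : Subgroup G → Prop} (h : ∀ H, 𝓗 H → 𝓚 H) :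
    permSpan 𝓗 ≤ permSpan 𝓚 := by
  apply Submodule.span_mono
  rintro f ⟨H, hH, rfl⟩
  exact ⟨H, h H hH, rfl⟩

theorem stabilizer_quotient_mk (H : Subgroup G) (y : G) :
    stabilizer G (y : G ⧸ H) = H.map (MulAut.conj y).toMonoidHom := by
  have : (y : G ⧸ H) = y • ((1 : G) : G ⧸ H) := by
    change _ = (((y * 1 : G)) : G ⧸ H)
    rw [mul_one]
  rw [this, stabilizer_smul_eq_stabilizer_map_conj, stabilizer_quotient]

theorem mul_mem_permSpan [Finite G] (𝓗 : Subgroup G → Prop)
    (hsub : ∀ H K, K ≤ H → 𝓗 H → 𝓗 K)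
    (hconj : ∀ H (y : G), 𝓗 H → 𝓗 (H.map (MulAut.conj y).toMonoidHom))
    {f f' : G → ℤ} (hf : f ∈ permSpan 𝓗) (hf' : f' ∈ permSpan 𝓗) : f * f' ∈ permSpan 𝓗 := by
  unfold permSpan at hf
  induction hf using Submodule.span_induction with
  | mem f hf =>
    obtain ⟨H, hH, rfl⟩ := hf
    unfold permSpan at hf'
    induction hf' using Submodule.span_induction with
    | mem f' hf' =>
      obtain ⟨K, hK, rfl⟩ := hf'
      have : (fixCount (G ⧸ H) * fixCount (G ⧸ K) : G → ℤ) = fixCount ((G ⧸ H) × (G ⧸ K)) := by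
        funext g
        rw [fixCount_prod]; rfl
      rw [this]
      apply fixCount_mem_permSpan
      rintro ⟨x, y⟩
      induction x using QuotientGroup.induction_on with
      | H a =>
        apply hsub _ _ _ (hconj H a hH)
        rw [← stabilizer_quotient_mk]
        intro s hs
        exact congrArg Prod.fst hs
    | zero => rw [mul_zero]; exact Submodule.zero_mem _
    | add a b _ _ ha hb => rw [mul_add]; exact Submodule.add_mem _ ha hb
    | smul c a _ ha => rw [mul_smul_comm]; exact Submodule.smul_mem _ c ha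
  | zero => rw [zero_mul]; exact Submodule.zero_mem _
  | add a b _ _ ha hb => rw [add_mul]; exact Submodule.add_mem _ ha hb
  | smul c a _ ha => rw [smul_mul_assoc]; exact Submodule.smul_mem _ c ha

/-- expansion lemma -/
theorem prod_sub_mem {α : Type*} (R : Submodule ℤ (α → ℤ))
    (hmul : ∀ f f', f ∈ R → f' ∈ R → f * f' ∈ R) {ι : Type*} (s : Finset ι) (c : ι → ℤ)
    (r : ι → α → ℤ) (hr : ∀ i ∈ s, r i ∈ R) :
    (∏ i ∈ s, ((fun _ => c i) - r i)) - (fun _ => ∏ i ∈ s, c i) ∈ R := by
  classical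
  induction s using Finset.induction_on with
  | empty =>
    simp only [Finset.prod_empty]
    have : ((1 : α → ℤ) - fun _ => (1 : ℤ)) = 0 := by funext x; simp
    rw [this]; exact Submodule.zero_mem _
  | insert a s ha ih =>
    rw [Finset.prod_insert ha, Finset.prod_insert ha]
    have ih' := ih (fun i hi => hr i (Finset.mem_insert_of_mem hi))
    have hra := hr a (Finset.mem_insert_self _ _)
    set P := ∏ i ∈ s, ((fun _ => c i) - r i) with hP
    set C := ∏ i ∈ s, c i with hC
    have : ((fun _ => c a) - r a) * P - (fun _ => c a * C)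
        = c a • (P - fun _ => C) - r a * (P - fun _ => C) - C • r a := by
      funext x
      simp only [Pi.sub_apply, Pi.mul_apply, Pi.smul_apply, smul_eq_mul]
      ring
    rw [this]
    exact Submodule.sub_mem _ (Submodule.sub_mem _ (Submodule.smul_mem _ _ ih')
      (hmul _ _ hra ih')) (Submodule.smul_mem _ _ hra)

theorem pow_mem {α : Type*} (R : Submodule ℤ (α → ℤ))
    (hmul : ∀ f f', f ∈ R → f' ∈ R → f * f' ∈ R) {f : α → ℤ} (hf : f ∈ R) (n : ℕ) :
    f ^ (n + 1) ∈ R := by
  induction n with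
  | zero => simpa using hf
  | succ n ih => rw [pow_succ]; exact hmul _ _ ih hf

/-- Banaschewski type lemma, local form. -/
theorem exists_const_mem {α : Type*} [Finite α] (R : Submodule ℤ (α → ℤ))
    (hmul : ∀ f f', f ∈ R → f' ∈ R → f * f' ∈ R) (p : ℕ) (hp : p.Prime)
    (h : ∀ x : α, ∃ f ∈ R, ¬ (p : ℤ) ∣ f x) :
    ∃ m : ℤ, ¬ (p : ℤ) ∣ m ∧ (fun _ => m) ∈ R := by
  classical
  let _ := Fintype.ofFinite α
  choose f hfR hf using h
  have hpZ : Prime (p : ℤ) := Nat.prime_iff_prime_int.1 hp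
  -- step 1 : `r ∈ R` with `r x ≡ 1`
  have h1 := prod_sub_mem R hmul Finset.univ (fun _ => 1) (fun x => f x ^ (p - 1))
    (fun x _ => by
      have := pow_mem R hmul (hfR x) (p - 2)
      have h2 : p - 2 + 1 = p - 1 := by have := hp.two_le; omega
      rwa [h2] at this)
  set r : α → ℤ := (fun _ => ∏ _i : α, (1 : ℤ)) - ∏ x : α, ((fun _ => (1 : ℤ)) - f x ^ (p - 1))
    with hr
  have hrR : r ∈ R := by
    have : r = - ((∏ x : α, ((fun _ => (1 : ℤ)) - f x ^ (p - 1))) - fun _ => ∏ _i : α, (1 : ℤ)) := by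
      rw [hr]; ring
    rw [this]; exact Submodule.neg_mem _ h1
  have hrx : ∀ x, ¬ (p : ℤ) ∣ r x := by
    intro x hx
    have h3 : (p : ℤ) ∣ (∏ y : α, ((fun _ => (1 : ℤ)) - f y ^ (p - 1)) : α → ℤ) x := by
      rw [Finset.prod_apply]
      apply Dvd.dvd.trans _ (Finset.dvd_prod_of_mem _ (Finset.mem_univ x))
      simp only [Pi.sub_apply, Pi.pow_apply]
      have hc : IsCoprime (f x x) (p : ℤ) := by
        rw [isCoprime_comm]
        exact (Prime.coprime_iff_not_dvd hpZ).2 (hf x)
      have := (Int.ModEq.pow_card_sub_one_eq_one hp hc).dvd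
      simpa using this
    have h4 : r x = 1 - (∏ y : α, ((fun _ => (1 : ℤ)) - f y ^ (p - 1)) : α → ℤ) x := by
      rw [hr]; simp
    rw [h4] at hx
    have : (p : ℤ) ∣ 1 := by
      have := dvd_add hx h3
      simpa using this
    exact hpZ.not_isUnit (isUnit_of_dvd_one this)
  -- step 2
  have h5 := prod_sub_mem R hmul Finset.univ (fun x => r x) (fun _ => r) (fun _ _ => hrR)
  have h6 : (∏ x : α, ((fun _ => r x) - r)) = 0 := by
    funext y
    rw [Finset.prod_apply]
    apply Finset.prod_eq_zero (Finset.mem_univ y)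
    simp
  rw [h6, zero_sub] at h5
  refine ⟨∏ x : α, r x, ?_, ?_⟩
  · intro hd
    obtain ⟨x, _, hx⟩ := (Prime.dvd_finsetProd_iff hpZ _).1 hd
    exact hrx x hx
  · have := Submodule.neg_mem _ h5
    simpa using this

/-- `p`-quasi-elementary subgroups, in the form used by the statements -/
def QE (p : ℕ) (H : Subgroup G) : Prop :=
  ∃ C : Subgroup G, C ≤ H ∧ H ≤ Subgroup.normalizer (C : Set G) ∧ IsCyclic C ∧
    Nat.Coprime (Nat.card C) p ∧ ∃ k : ℕ, C.relIndex H = p ^ k

theorem QE.of_le {p : ℕ} (hp : p.Prime) {H K : Subgroup G} (hKH : K ≤ H) (h : QE p H) :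
    QE p K := by
  obtain ⟨C, hCH, hN, hcyc, hcop, k, hk⟩ := h
  refine ⟨C ⊓ K, inf_le_right, ?_, Subgroup.isCyclic_of_le inf_le_left, ?_, ?_⟩
  · intro x hx
    have hxN := hN (hKH hx)
    rw [Subgroup.mem_normalizer_iff] at hxN ⊢
    intro y
    rw [Subgroup.mem_inf, Subgroup.mem_inf, ← hxN y]
    have : y ∈ K ↔ x * y * x⁻¹ ∈ K := by
      constructor
      · intro hy; exact K.mul_mem (K.mul_mem hx hy) (K.inv_mem hx)
      · intro hy
        have := K.mul_mem (K.mul_mem (K.inv_mem hx) hy) hx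
        simpa [mul_assoc] using this
    rw [this]
  · exact Nat.Coprime.coprime_dvd_left (Subgroup.card_dvd_of_le inf_le_left) hcop
  · rw [Subgroup.inf_relIndex_right]
    haveI : (C.subgroupOf H).Normal := (Subgroup.normal_subgroupOf_iff_le_normalizer hCH).2 hN
    have h1 := Subgroup.relIndex_dvd_index_of_normal (C.subgroupOf H) (K.subgroupOf H)
    rw [Subgroup.relIndex_subgroupOf hKH] at h1
    have h2 : C.relIndex K ∣ p ^ k := by rw [← hk]; exact h1
    obtain ⟨j, _, hj⟩ := (Nat.dvd_prime_pow hp).1 h2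
    exact ⟨j, hj⟩

theorem QE.map_equiv {p : ℕ} {H : Subgroup G} (e : G ≃* G) (h : QE p H) :
    QE p (H.map e.toMonoidHom) := by
  obtain ⟨C, hCH, hN, hcyc, hcop, k, hk⟩ := h
  refine ⟨C.map e.toMonoidHom, Subgroup.map_mono hCH, ?_, ?_, ?_, k, ?_⟩
  · rw [← Subgroup.map_equiv_normalizer_eq]; exact Subgroup.map_mono hN
  · exact isCyclic_of_surjective (C.equivMapOfInjective e.toMonoidHom e.injective)
      (MulEquiv.surjective _)
  · rw [← Nat.card_congr (C.equivMapOfInjective e.toMonoidHom e.injective).toEquiv]; exact hcop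
  · rw [Subgroup.relIndex_map_map_of_injective _ _ e.injective, hk]

theorem mem_normalizer_zpowers_of_conj_mem [Finite G] (c y : G)
    (h : y⁻¹ * c * y ∈ Subgroup.zpowers c) :
    y ∈ Subgroup.normalizer (Subgroup.zpowers c : Set G) := by
  set C := Subgroup.zpowers c with hC
  have h1 : C.map (MulAut.conj y⁻¹).toMonoidHom ≤ C := by
    rw [hC, MonoidHom.map_zpowers, Subgroup.zpowers_le]
    simpa using h
  have h2 : C.map (MulAut.conj y⁻¹).toMonoidHom = C := by
    apply Subgroup.eq_of_le_of_card_ge h1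
    rw [← Nat.card_congr (C.equivMapOfInjective (MulAut.conj y⁻¹).toMonoidHom
      (MulAut.conj y⁻¹).injective).toEquiv]
  have h3 : y⁻¹ ∈ Subgroup.normalizer (C : Set G) := by
    rw [Subgroup.mem_normalizer_iff]
    intro z
    constructor
    · intro hz
      exact h1 ⟨z, hz, rfl⟩
    · intro hz
      rw [← h2] at hz
      obtain ⟨z', hz', he⟩ := hz
      have : z' = z := (MulAut.conj y⁻¹).injective he
      rwa [← this]
  simpa using Subgroup.inv_mem _ h3

theorem exists_QE_not_dvd [Finite G] (x : G) (p : ℕ) (hp : p.Prime) :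
    ∃ H : Subgroup G, QE p H ∧ ¬ (p : ℤ) ∣ fixCount (G ⧸ H) x := by
  haveI := Fact.mk hp
  obtain ⟨a, m, hm, ho⟩ := Nat.exists_eq_pow_mul_and_not_dvd (orderOf_pos x).ne' p hp.ne_one
  have hm0 : m ≠ 0 := by rintro rfl; exact hm (dvd_zero _)
  have hpa0 : p ^ a ≠ 0 := pow_ne_zero _ hp.ne_zero
  set c := x ^ (p ^ a) with hc
  set d := x ^ m with hd
  have hoc : orderOf c = m := by
    rw [hc, orderOf_pow_of_dvd hpa0 ⟨m, ho⟩, ho, Nat.mul_div_cancel_left _ (Nat.pos_of_ne_zero hpa0)]
  have hod : orderOf d = p ^ a := by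
    rw [hd, orderOf_pow_of_dvd hm0 ⟨p ^ a, by rw [ho, mul_comm]⟩, ho,
      Nat.mul_div_cancel _ (Nat.pos_of_ne_zero hm0)]
  have hcop : Nat.Coprime m p := ((Nat.Prime.coprime_iff_not_dvd hp).2 hm).symm
  set C := Subgroup.zpowers c with hC
  set N := Subgroup.normalizer (C : Set G) with hN
  have hCN : C ≤ N := Subgroup.le_normalizer
  have hxN : x ∈ N := by
    apply mem_normalizer_zpowers_of_conj_mem
    have : x⁻¹ * c * x = c := by
      rw [hc, mul_assoc, ← pow_succ, pow_succ', ← mul_assoc, inv_mul_cancel, one_mul]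
    rw [this]; exact Subgroup.mem_zpowers c
  have hdN : d ∈ N := N.pow_mem hxN m
  haveI hCn : (C.subgroupOf N).Normal := (Subgroup.normal_subgroupOf_iff_le_normalizer hCN).2 le_rfl
  have hDp : IsPGroup p (Subgroup.zpowers (⟨d, hdN⟩ : N)) := by
    apply IsPGroup.of_card (n := a)
    rw [Nat.card_zpowers, ← hod, ← Subgroup.orderOf_coe]
  obtain ⟨P₀, hP₀⟩ := hDp.exists_le_sylow
  set H' : Subgroup N := C.subgroupOf N ⊔ P₀ with hH'
  set H : Subgroup G := H'.map N.subtype with hH
  have hCH : C ≤ H := by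
    rw [← Subgroup.map_subgroupOf_eq_of_le hCN]
    exact Subgroup.map_mono le_sup_left
  have hHN : H ≤ N := Subgroup.map_subtype_le _
  have hcardC : Nat.card C = m := by rw [hC, Nat.card_zpowers, hoc]
  have hQE : QE p H := by
    refine ⟨C, hCH, hHN, by rw [hC]; infer_instance, by rw [hcardC]; exact hcop, ?_⟩
    have h1 : C.relIndex H = (C.subgroupOf N).relIndex H' := by
      conv_lhs => rw [← Subgroup.map_subgroupOf_eq_of_le hCN]
      rw [hH, Subgroup.relIndex_map_map_of_injective _ _ N.subtype_injective]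
    rw [h1, hH', Subgroup.relIndex_sup_left]
    obtain ⟨n, hn⟩ := (IsPGroup.iff_card).1 P₀.2
    have h2 : (C.subgroupOf N).relIndex P₀ ∣ p ^ n := by
      rw [← hn]; exact Subgroup.relIndex_dvd_card _ _
    obtain ⟨j, _, hj⟩ := (Nat.dvd_prime_pow hp).1 h2
    exact ⟨j, hj⟩
  -- `p'`-elements of `H` lie in `C`
  have hreg : ∀ z ∈ H, Nat.Coprime (orderOf z) p → z ∈ C := by
    rintro z ⟨z', hz', rfl⟩ hz
    have h1 : (z' : N) ∈ ((C.subgroupOf N ⊔ P₀ : Subgroup N) : Set N) := hz'
    rw [Subgroup.normal_mul] at h1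
    obtain ⟨c', hc', s, hs, rfl⟩ := h1
    set φ := QuotientGroup.mk' (C.subgroupOf N) with hφ
    have h2 : φ (c' * s) = φ s := by
      rw [map_mul, show φ c' = 1 from (QuotientGroup.eq_one_iff c').2 hc', one_mul]
    obtain ⟨k, hk⟩ := P₀.2 ⟨s, hs⟩
    have hk' : s ^ p ^ k = 1 := by simpa using congrArg Subtype.val hk
    have h3 : orderOf (φ (c' * s)) ∣ p ^ k := by
      apply orderOf_dvd_of_pow_eq_one
      rw [h2, ← map_pow, hk', map_one]
    have h4 : orderOf (φ (c' * s)) ∣ orderOf (c' * s) := orderOf_map_dvd φ _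
    have h5 : Nat.Coprime (orderOf (c' * s)) (p ^ k) := by
      apply Nat.Coprime.pow_right
      have : orderOf (N.subtype (c' * s)) = orderOf (c' * s) :=
        orderOf_injective N.subtype N.subtype_injective _
      rw [← this]; exact hz
    have h6 : orderOf (φ (c' * s)) = 1 := Nat.eq_one_of_dvd_coprimes h5 h4 h3
    rw [orderOf_eq_one_iff] at h6
    have h7 : c' * s ∈ C.subgroupOf N := (QuotientGroup.eq_one_iff _).1 h6
    exact h7
  have hset : ∀ y : G, y⁻¹ * c * y ∈ H ↔ y ∈ N := by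
    intro y
    constructor
    · intro h
      apply mem_normalizer_zpowers_of_conj_mem
      apply hreg _ h
      have : orderOf (y⁻¹ * c * y) = orderOf c := by
        have := (MulAut.conj y⁻¹).orderOf_eq c
        simpa using this
      rw [this, hoc]; exact hcop
    · intro h
      have h1 := N.inv_mem h
      rw [hN, Subgroup.mem_normalizer_iff] at h1
      have := (h1 c).1 (Subgroup.mem_zpowers c)
      rw [inv_inv] at this
      exact hCH this
  have hcardY : Nat.card (fixedBy (G ⧸ H) c) = H'.index := by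
    have h1 := card_conj_mem H c
    rw [Nat.card_congr (Equiv.subtypeEquivRight hset)] at h1
    have h2 : Nat.card H = Nat.card H' :=
      (Nat.card_congr (H'.equivMapOfInjective N.subtype N.subtype_injective).toEquiv).symm
    have h3 := H'.card_mul_index
    have h4 : Nat.card {y : G // y ∈ N} = Nat.card N := rfl
    rw [h4, ← h3, h2, mul_comm] at h1
    exact (Nat.eq_of_mul_eq_mul_right Nat.card_pos h1).symm
  have hYp : ¬ p ∣ Nat.card (fixedBy (G ⧸ H) c) := by
    rw [hcardY]
    intro h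
    exact P₀.not_dvd_index (h.trans (Subgroup.index_dvd_of_le le_sup_right))
  -- the action of `D`
  have hDp' : IsPGroup p (Subgroup.zpowers d) := by
    apply IsPGroup.of_card (n := a)
    rw [Nat.card_zpowers, hod]
  let Ys : SubMulAction (Subgroup.zpowers d) (G ⧸ H) :=
    { carrier := fixedBy (G ⧸ H) c
      smul_mem' := by
        rintro ⟨e, he⟩ q hq
        obtain ⟨k, rfl⟩ := Subgroup.mem_zpowers_iff.1 he
        have hcomm : Commute c (d ^ k) := (Commute.pow_pow_self x _ _).zpow_right k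
        change c • ((d ^ k) • q) = (d ^ k) • q
        rw [← mul_smul, hcomm.eq, mul_smul, show c • q = q from hq] }
  have hmod := hDp'.card_modEq_card_fixedPoints Ys
  have hF1 : ∀ q : G ⧸ H, x • q = q → ∀ e ∈ Subgroup.zpowers x, e • q = q := by
    intro q hq e he
    have : Subgroup.zpowers x ≤ stabilizer G q := by
      rw [Subgroup.zpowers_le]; exact hq
    exact this he
  have hF2 : ∀ q : G ⧸ H, c • q = q → d • q = q → x • q = q := by
    intro q hcq hdq
    have hcop' : Nat.Coprime (p ^ a) m := (Nat.Coprime.pow_right a hcop).symm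
    have hb := Nat.gcd_eq_gcd_ab (p ^ a) m
    rw [hcop'] at hb
    have hx : x = c ^ (Nat.gcdA (p ^ a) m) * d ^ (Nat.gcdB (p ^ a) m) := by
      rw [hc, hd, ← zpow_natCast x (p ^ a), ← zpow_natCast x m, ← zpow_mul, ← zpow_mul, ← zpow_add,
        ← hb]
      simp
    have h1 : c ∈ stabilizer G q := hcq
    have h2 : d ∈ stabilizer G q := hdq
    have h3 : x ∈ stabilizer G q := by
      rw [hx]
      exact Subgroup.mul_mem _ (Subgroup.zpow_mem _ h1 _) (Subgroup.zpow_mem _ h2 _)
    exact h3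
  have hcx : c ∈ Subgroup.zpowers x := Subgroup.pow_mem _ (Subgroup.mem_zpowers x) _
  have hdx : d ∈ Subgroup.zpowers x := Subgroup.pow_mem _ (Subgroup.mem_zpowers x) _
  have hcard2 : Nat.card (fixedPoints (Subgroup.zpowers d) Ys) = Nat.card (fixedBy (G ⧸ H) x) := by
    apply Nat.card_congr
    exact
      { toFun := fun z => ⟨z.1.1, hF2 _ z.1.2
          (congrArg Subtype.val (z.2 ⟨d, Subgroup.mem_zpowers d⟩))⟩
        invFun := fun z => ⟨⟨z.1, hF1 _ z.2 c hcx⟩, fun e => Subtype.ext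
          (hF1 _ z.2 e.1 ((Subgroup.zpowers_le.2 hdx) e.2))⟩
        left_inv := fun z => rfl
        right_inv := fun z => rfl }
  refine ⟨H, hQE, ?_⟩
  unfold fixCount
  rw [Int.natCast_dvd_natCast, ← hcard2]
  intro h
  apply hYp
  have h1 : Nat.card Ys = Nat.card (fixedBy (G ⧸ H) c) := rfl
  rw [← h1]
  exact (Nat.modEq_zero_iff_dvd.1 (hmod.trans (Nat.modEq_zero_iff_dvd.2 h)))

theorem solomon_local [Finite G] (p : ℕ) (hp : p.Prime) :
    ∃ m : ℤ, ¬ (p : ℤ) ∣ m ∧ (fun _ : G => m) ∈ permSpan (QE (G := G) p) := by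
  apply exists_const_mem _ (fun f f' => mul_mem_permSpan (QE p) (fun H K h => QE.of_le hp h)
    (fun H y h => h.map_equiv _)) p hp
  intro x
  obtain ⟨H, hH, hx⟩ := exists_QE_not_dvd x p hp
  exact ⟨fixCount (G ⧸ H), Submodule.subset_span ⟨H, hH, rfl⟩, hx⟩

/-- quasi-elementary for some prime -/
def QEany (H : Subgroup G) : Prop := ∃ p : ℕ, p.Prime ∧ QE p H

/-- **Solomon's induction theorem.** -/
theorem solomon [Finite G] : (fun _ : G => (1 : ℤ)) ∈ permSpan (QEany (G := G)) := by
  let L : ℤ →ₗ[ℤ] (G → ℤ) :=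
    { toFun := fun m _ => m, map_add' := fun _ _ => rfl, map_smul' := fun _ _ => rfl }
  let I : Ideal ℤ := (permSpan (QEany (G := G))).comap L
  have hI : ∀ m : ℤ, m ∈ I ↔ (fun _ : G => m) ∈ permSpan (QEany (G := G)) := fun m => Iff.rfl
  rw [← hI]
  set n := Submodule.IsPrincipal.generator I with hn
  have h1 : ∀ p : ℕ, p.Prime → ¬ p ∣ n.natAbs := by
    intro p hp hd
    obtain ⟨m, hm, hmem⟩ := solomon_local (G := G) p hp
    have h2 : m ∈ I := by
      rw [hI]
      exact permSpan_mono (fun H hH => ⟨p, hp, hH⟩) hmem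
    have h3 : n ∣ m := (Submodule.IsPrincipal.mem_iff_generator_dvd I).1 h2
    exact hm ((Int.natCast_dvd.2 hd).trans h3)
  have h2 : n.natAbs = 1 := Nat.eq_one_iff_not_exists_prime_dvd.2 h1
  rw [Submodule.IsPrincipal.mem_iff_generator_dvd I]
  exact (Int.isUnit_iff_natAbs_eq.2 h2).dvd

theorem exists_coeff [Fintype (Subgroup G)] (𝓗 : Subgroup G → Prop) {f : G → ℤ}
    (hf : f ∈ permSpan 𝓗) :
    ∃ a : Subgroup G → ℤ, (∀ H, a H ≠ 0 → 𝓗 H) ∧
      f = ∑ H : Subgroup G, a H • (fixCount (G ⧸ H) : G → ℤ) := by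
  classical
  unfold permSpan at hf
  induction hf using Submodule.span_induction with
  | mem f hf =>
    obtain ⟨H, hH, rfl⟩ := hf
    refine ⟨Pi.single H 1, ?_, ?_⟩
    · intro K hK
      by_cases h : K = H
      · rw [h]; exact hH
      · exact absurd (Pi.single_eq_of_ne h _) hK
    · rw [Finset.sum_eq_single H]
      · simp
      · intro K _ hK
        rw [Pi.single_eq_of_ne hK, zero_smul]
      · intro h; exact absurd (Finset.mem_univ _) h
  | zero => exact ⟨0, fun H h => absurd rfl h, by simp⟩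
  | add f g _ _ hf hg =>
    obtain ⟨a, ha, rfl⟩ := hf
    obtain ⟨b, hb, rfl⟩ := hg
    refine ⟨a + b, ?_, ?_⟩
    · intro H hH
      by_cases h : a H = 0
      · apply hb
        intro h'
        apply hH
        simp [h, h']
      · exact ha H h
    · rw [← Finset.sum_add_distrib]
      apply Finset.sum_congr rfl
      intro H _
      rw [Pi.add_apply, add_smul]
  | smul c f _ hf =>
    obtain ⟨a, ha, rfl⟩ := hf
    refine ⟨c • a, ?_, ?_⟩
    · intro H hH
      apply ha
      intro h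
      apply hH
      simp [h]
    · rw [Finset.smul_sum]
      apply Finset.sum_congr rfl
      intro H _
      rw [Pi.smul_apply, smul_smul, smul_eq_mul]

/-- complex form -/
theorem exists_coeff_complex [Fintype G] [Fintype (Subgroup G)] (𝓗 : Subgroup G → Prop) {m : ℤ}
    (hf : (fun _ : G => m) ∈ permSpan 𝓗) :
    ∃ a : Subgroup G → ℤ, (∀ H, a H ≠ 0 → 𝓗 H) ∧
      (fun _ : G => (m : ℂ)) = ∑ H : Subgroup G, (a H : ℂ) • Cfsg.indFun H (fun _ => 1) := by
  obtain ⟨a, ha, h⟩ := exists_coeff 𝓗 hf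
  refine ⟨a, ha, ?_⟩
  funext g
  have h1 := congrFun h g
  rw [Finset.sum_apply] at h1 ⊢
  simp only [Pi.smul_apply, smul_eq_mul] at h1 ⊢
  rw [h1]
  push_cast
  apply Finset.sum_congr rfl
  intro H _
  rw [indFun_one_eq]

end Cfsg.Agent.Lib.Helper23.Solomon
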