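import Mathlib
import Cfsg.Prelude.Def_Characters
import Cfsg.Agent.Lib.Helper23.Solomon
import Cfsg.Agent.Lib.Helper23.Monomial

set_option autoImplicit false

namespace Cfsg.Agent.Lib.Helper23.Brauer

open Cfsg.Agent.Lib.Helper2 Cfsg.Agent.Lib.Helper13 Cfsg.Agent.Lib.Lead Cfsg.Agent.Lib.Helper24
open Cfsg.Agent.Lib.Helper23.IndTools Cfsg.Agent.Lib.Helper23.Monomial
open Cfsg.Agent.Lib.Helper23.Solomon
open scoped ComplexConjugate

universe u

theorem scalar_mul {G : Type u} [Group G] [Finite G] {χ : G → ℂ} (hχ : Cfsg.IsCharacter G χ)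
    {c : G} (h : ‖χ c‖ = ‖χ 1‖) (g : G) : χ (c * g) * χ 1 = χ c * χ g := by
  obtain ⟨n, ρ, rfl⟩ := hχ
  have h1 : ‖ρ.character c‖ = (Module.finrank ℂ (Fin n → ℂ) : ℝ) := by
    rw [h, Representation.char_one]; simp
  obtain ⟨ω, hω⟩ := (norm_char_eq_iff ρ c).1 h1
  have e1 : ρ.character (c * g) = ω * ρ.character g := by
    simp only [Representation.character, map_mul, hω]
    have : (ω • (LinearMap.id : (Fin n → ℂ) →ₗ[ℂ] (Fin n → ℂ))) * ρ g = ω • ρ g := by
      ext v; simp
    rw [this, map_smul, smul_eq_mul]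
  have e2 : ρ.character c = ω * ρ.character 1 := by
    have := e1
    simp only [Representation.character, hω, map_smul, smul_eq_mul, map_one]
    rfl
  rw [e1, e2]; ring

theorem hom_trivial_of_coprime {A P : Type*} [CommGroup A] [Finite A] [Group P] [Fintype P]
    (φ : P →* MulAut A) (hcop : Nat.Coprime (Nat.card A) (Nat.card P)) (lam : A →* ℂˣ)
    (hinv : ∀ u a, lam (φ u a) = lam a) (hfix : ∀ a, (∀ u, φ u a = a) → lam a = 1) (a : A) :
    lam a = 1 := by
  have h1 : lam (∏ u : P, φ u a) = lam a ^ Nat.card P := by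
    rw [map_prod]
    simp [hinv, Finset.prod_const, Nat.card_eq_fintype_card]
  have h2 : lam (∏ u : P, φ u a) = 1 := by
    apply hfix
    intro v
    rw [map_prod]
    refine Fintype.prod_equiv (Equiv.mulLeft v) _ _ (fun u => ?_)
    simp [map_mul]
  have h3 : lam a ^ Nat.card A = 1 := by rw [← map_pow, pow_card_eq_one', map_one]
  have h4 : lam a ^ Nat.card P = 1 := by rw [← h1, h2]
  have := pow_gcd_eq_one.2 ⟨h3, h4⟩
  rwa [hcop, pow_one] at this

/-- The key step from quasi-elementary to elementary groups. -/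
theorem induced_of_constituent {G : Type u} [Group G] [Fintype G] (C P : Subgroup G) [hCn : C.Normal]
    (hcomm : ∀ a ∈ C, ∀ b ∈ C, a * b = b * a) (hcop : Nat.Coprime (Nat.card C) (Nat.card P))
    (hCP : C ⊔ P = ⊤) {χ : G → ℂ} (hχ : Cfsg.IsIrrCharacter G χ) (hne : χ ≠ fun _ => 1)
    (hcon : Cfsg.classInner
      (Cfsg.indFun ((C ⊓ Subgroup.centralizer (P : Set G)) ⊔ P) (fun _ => 1)) χ ≠ 0) :
    ∃ (T : Subgroup G) (ψ : T → ℂ), T ≠ ⊤ ∧ Cfsg.IsIrrCharacter T ψ ∧ Cfsg.indFun T ψ = χ := by
  classical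
  set Z := C ⊓ Subgroup.centralizer (P : Set G) with hZdef
  set E := Z ⊔ P with hEdef
  have hχc := IsIrrCharacter.isCharacter hχ
  have hcl := IsCharacter.isClassFunction hχc
  have hχ1 : χ 1 ≠ 0 := Cfsg.Agent.Lib.Helper6.irr_one_ne_zero hχ
  have hs : ∑ e : E, χ e ≠ 0 := by
    intro h0
    apply hcon
    rw [frobenius_reciprocity E _ χ hcl]
    unfold Cfsg.classInner
    simp only [one_mul]
    rw [← map_sum, h0, map_zero, mul_zero]
  have hres : Cfsg.IsCharacter C (fun n : C => χ n) := IsCharacter.restrict C hχc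
  obtain ⟨θ, hθ⟩ := exists_constituent hres hχ1
  rcases invariant_or_induced C hχ θ.2 hθ with hinv | h
  swap
  · exact h
  exfalso
  have h1 := restrict_eq_smul_of_invariant C hχ θ.2 hθ hinv
  have hcen : Subgroup.center C = ⊤ := by
    rw [eq_top_iff]
    intro a _
    rw [Subgroup.mem_center_iff]
    intro b
    exact Subtype.ext (hcomm b b.2 a a.2)
  have hθ1 : (θ : C → ℂ) 1 = 1 := degree_one_of_center_eq_top hcen θ.2
  obtain ⟨lam, hlam⟩ := exists_hom_of_degree_one (IsIrrCharacter.isCharacter θ.2) hθ1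
  have he : Cfsg.classInner (fun n : C => χ n) (θ : C → ℂ) = χ 1 := by
    have := congrFun h1 1
    simp only [Pi.smul_apply, smul_eq_mul, hθ1, mul_one] at this
    exact this.symm
  have hval : ∀ c : C, χ c = χ 1 * (lam c : ℂ) := by
    intro c
    have := congrFun h1 c
    simp only [Pi.smul_apply, smul_eq_mul, he] at this
    rw [this, hlam]
  have hlamnorm : ∀ c : C, ‖(lam c : ℂ)‖ = 1 := by
    intro c
    apply Complex.norm_eq_one_of_pow_eq_one (n := orderOf c) _ (orderOf_pos c).ne'
    rw [← Units.val_pow_eq_pow_val, ← map_pow, pow_orderOf_eq_one, map_one, Units.val_one]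
  have hM : ∀ (c : C) (g : G), χ (c * g) = (lam c : ℂ) * χ g := by
    intro c g
    have h2 := scalar_mul hχc (c := (c : G)) (by rw [hval c, norm_mul, hlamnorm, mul_one]) g
    rw [hval c] at h2
    apply mul_right_cancel₀ hχ1
    rw [h2]; ring
  -- `lam` is trivial on `Z`
  have hZ : ∀ c : C, (c : G) ∈ Z → lam c = 1 := by
    intro c hc
    have hcE : (c : G) ∈ E := (le_sup_left : Z ≤ E) hc
    have h2 : ∑ e : E, χ e = ∑ e : E, χ ((c : G) * e) :=
      (Fintype.sum_equiv (Equiv.mulLeft (⟨c, hcE⟩ : E)) _ _ (fun e => rfl)).symm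
    simp only [hM, ← Finset.mul_sum] at h2
    have h3 : ((lam c : ℂ) - 1) * ∑ e : E, χ e = 0 := by
      rw [sub_mul, one_mul, ← h2, sub_self]
    rcases mul_eq_zero.1 h3 with h4 | h4
    · apply Units.ext
      rw [Units.val_one]
      exact sub_eq_zero.1 h4
    · exact absurd h4 hs
  -- `lam` is trivial
  have hlam1 : ∀ c : C, lam c = 1 := by
    letI : CommGroup C :=
      { (inferInstance : Group C) with mul_comm := fun a b => Subtype.ext (hcomm a a.2 b b.2) }
    apply hom_trivial_of_coprime ((MulAut.conjNormal (H := C)).comp P.subtype) hcop lam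
    · intro u a
      apply Units.ext
      apply mul_left_cancel₀ hχ1
      rw [← hval, ← hval]
      exact hcl a u
    · intro a ha
      apply hZ
      refine Subgroup.mem_inf.2 ⟨a.2, ?_⟩
      rw [Subgroup.mem_centralizer_iff]
      intro v hv
      have := congrArg Subtype.val (ha ⟨v, hv⟩)
      simp only [MonoidHom.comp_apply, Subgroup.subtype_apply, MulAut.conjNormal_apply] at this
      calc v * (a : G) = v * (a : G) * v⁻¹ * v := by group
        _ = (a : G) * v := by rw [this]
  have hinvC : ∀ (c : G), c ∈ C → ∀ g, χ (c * g) = χ g := by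
    intro c hc g
    have := hM ⟨c, hc⟩ g
    rw [hlam1, Units.val_one, one_mul] at this
    exact this
  -- the final count
  have hF : ∀ g : G, ∑ e : E, χ (g * e) = ∑ e : E, χ e := by
    intro g
    have hg : g ∈ ((C ⊔ P : Subgroup G) : Set G) := by rw [hCP]; trivial
    rw [Subgroup.normal_mul] at hg
    obtain ⟨c, hc, u, hu, rfl⟩ := hg
    have huE : u ∈ E := (le_sup_right : P ≤ E) hu
    have h2 : ∀ e : E, χ ((fun x1 x2 => x1 * x2) c u * e) = χ (u * e) := by
      intro e
      change χ (c * u * e) = _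
      rw [mul_assoc, hinvC c hc]
    simp only [h2]
    exact Fintype.sum_equiv (Equiv.mulLeft (⟨u, huE⟩ : E)) _ _ (fun e => rfl)
  have hsum0 : ∑ g : G, χ g = 0 := by
    have h2 := classInner_irr hχ (isIrrCharacter_one (G := G))
    rw [if_neg hne] at h2
    unfold Cfsg.classInner at h2
    simp only [map_one, mul_one] at h2
    rcases mul_eq_zero.1 h2 with h3 | h3
    · exfalso
      have : (Nat.card G : ℂ) ≠ 0 := by
        have : 0 < Nat.card G := Nat.card_pos
        exact_mod_cast this.ne'
      exact this (inv_eq_zero.1 h3)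
    · exact h3
  have h3 : ∑ g : G, ∑ e : E, χ (g * e) = 0 := by
    rw [Finset.sum_comm]
    apply Finset.sum_eq_zero
    intro e _
    rw [← hsum0]
    exact Fintype.sum_equiv (Equiv.mulRight (e : G)) _ _ (fun g => rfl)
  simp only [hF, Finset.sum_const, Finset.card_univ, nsmul_eq_mul] at h3
  rcases mul_eq_zero.1 h3 with h4 | h4
  · have : Fintype.card G ≠ 0 := Fintype.card_ne_zero
    exact this (by exact_mod_cast h4)
  · exact hs h4

section elementary

theorem isElementary_of_equiv {p : ℕ} {E F : Type*} [Group E] [Group F] (e : E ≃* F)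
    (h : Cfsg.IsElementary p E) : Cfsg.IsElementary p F := by
  obtain ⟨x, hx, hcop, k, hk⟩ := h
  refine ⟨e x, ?_, ?_, k, ?_⟩
  · rw [Subgroup.mem_center_iff] at hx ⊢
    intro g
    obtain ⟨g', rfl⟩ := e.surjective g
    rw [← map_mul, ← map_mul, hx g']
  · rw [e.orderOf_eq]; exact hcop
  · rw [← hk, ← Subgroup.index_map_equiv (Subgroup.zpowers x) e, MonoidHom.map_zpowers]
    rfl

theorem isElementary_subgroup {p : ℕ} (hp : p.Prime) {E : Type*} [Group E] [Finite E]
    (h : Cfsg.IsElementary p E) (H : Subgroup E) : Cfsg.IsElementary p H := by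
  obtain ⟨x, hx, hcop, k, hk⟩ := h
  have hle : Subgroup.zpowers x ≤ Subgroup.center E := by
    rw [Subgroup.zpowers_le]; exact hx
  haveI hnorm : (Subgroup.zpowers x).Normal := by
    constructor
    intro n hn g
    have := Subgroup.mem_center_iff.1 (hle hn) g
    rw [this, mul_assoc, mul_inv_cancel, mul_one]
    exact hn
  set S : Subgroup H := (Subgroup.zpowers x).subgroupOf H with hS
  haveI : IsCyclic S := by
    apply isCyclic_of_injective (H.subtype.subgroupComap (Subgroup.zpowers x))
    intro a b hab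
    apply Subtype.ext
    apply Subtype.ext
    exact congrArg (fun z : Subgroup.zpowers x => (z : E)) hab
  obtain ⟨g, hg⟩ := IsCyclic.exists_generator (α := S)
  have hz : Subgroup.zpowers (g : H) = S := by
    apply le_antisymm
    · rw [Subgroup.zpowers_le]; exact g.2
    · intro s hs
      obtain ⟨j, hj⟩ := Subgroup.mem_zpowers_iff.1 (hg ⟨s, hs⟩)
      rw [Subgroup.mem_zpowers_iff]
      exact ⟨j, by simpa using congrArg Subtype.val hj⟩
  have hgx : ((g : H) : E) ∈ Subgroup.zpowers x := g.2
  refine ⟨(g : H), ?_, ?_, ?_⟩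
  · rw [Subgroup.mem_center_iff]
    intro b
    apply Subtype.ext
    exact Subgroup.mem_center_iff.1 (hle hgx) b
  · have h1 : orderOf (g : H) = orderOf ((g : H) : E) := (Subgroup.orderOf_coe _).symm
    rw [h1]
    exact Nat.Coprime.coprime_dvd_left (orderOf_dvd_of_mem_zpowers hgx) hcop
  · rw [hz]
    have h1 : S.index ∣ p ^ k := by
      rw [← hk]
      exact Subgroup.relIndex_dvd_index_of_normal (Subgroup.zpowers x) H
    obtain ⟨j, _, hj⟩ := (Nat.dvd_prime_pow hp).1 h1
    exact ⟨j, hj⟩

theorem isNilpotent_of_isElementary {p : ℕ} (hp : p.Prime) {E : Type*} [Group E] [Finite E]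
    (h : Cfsg.IsElementary p E) : Group.IsNilpotent E := by
  obtain ⟨x, hx, hcop, k, hk⟩ := h
  haveI := Fact.mk hp
  have hle : Subgroup.zpowers x ≤ Subgroup.center E := by
    rw [Subgroup.zpowers_le]; exact hx
  have h1 : (Subgroup.center E).index ∣ p ^ k := by
    rw [← hk]; exact Subgroup.index_dvd_of_le hle
  obtain ⟨j, _, hj⟩ := (Nat.dvd_prime_pow hp).1 h1
  have h2 : IsPGroup p (E ⧸ Subgroup.center E) := IsPGroup.of_card (n := j) hj
  exact Group.of_quotient_center_nilpotent h2.isNilpotent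

end elementary

variable (G : Type u) [Group G] [Fintype G]

/-- span of the characters induced from proper subgroups -/
noncomputable def propSpan : Submodule ℤ (G → ℂ) :=
  Submodule.span ℤ {f | ∃ (T : Subgroup G) (ψ : T → ℂ), T ≠ ⊤ ∧ Cfsg.IsCharacter T ψ ∧
    f = Cfsg.indFun T ψ}

/-- span of the characters induced from linear characters of elementary subgroups -/
noncomputable def elSpan : Submodule ℤ (G → ℂ) :=
  Submodule.span ℤ {f | ∃ (E : Subgroup G) (lam : E →* ℂˣ),
    (∃ p : ℕ, p.Prime ∧ Cfsg.IsElementary p E) ∧ f = Cfsg.indFun E (fun e => (lam e : ℂ))}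

variable {G}

theorem one_mem_propSpan_of_not_QE (h : ¬ QEany (⊤ : Subgroup G)) :
    (fun _ : G => (1 : ℂ)) ∈ propSpan G := by
  classical
  obtain ⟨a, ha, h1⟩ := exists_coeff_complex _ (solomon (G := G))
  have h2 : (fun _ : G => (1 : ℂ)) = fun _ : G => (((1 : ℤ)) : ℂ) := by simp
  rw [h2, h1]
  apply Submodule.sum_mem
  intro H _
  rw [Int.cast_smul_eq_zsmul]
  by_cases h0 : a H = 0
  · rw [h0, zero_smul]; exact Submodule.zero_mem _
  · apply Submodule.smul_mem
    apply Submodule.subset_span
    refine ⟨H, fun _ => 1, ?_, IsIrrCharacter.isCharacter isIrrCharacter_one, rfl⟩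
    rintro rfl
    exact h (ha _ h0)

theorem one_mem_propSpan_of_QE {p : ℕ} (hp : p.Prime) (hQE : QE p (⊤ : Subgroup G))
    (hnE : ¬ Cfsg.IsElementary p G) : (fun _ : G => (1 : ℂ)) ∈ propSpan G := by
  classical
  haveI := Fact.mk hp
  obtain ⟨C, -, hN, hcyc, hcop, k, hk⟩ := hQE
  haveI hCn : C.Normal := Subgroup.normalizer_eq_top_iff.1 (top_le_iff.1 hN)
  obtain ⟨P⟩ : Nonempty (Sylow p G) := inferInstance
  rw [Subgroup.relIndex_top_right] at hk
  have hCP : C ⊔ (P : Subgroup G) = ⊤ := by
    rw [← Subgroup.index_eq_one]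
    have h1 : (C ⊔ (P : Subgroup G)).index ∣ p ^ k := by
      rw [← hk]; exact Subgroup.index_dvd_of_le le_sup_left
    obtain ⟨j, _, hj⟩ := (Nat.dvd_prime_pow hp).1 h1
    rcases Nat.eq_zero_or_pos j with rfl | hj0
    · simpa using hj
    · exfalso
      apply P.not_dvd_index
      apply Dvd.dvd.trans _ (Subgroup.index_dvd_of_le (le_sup_right : (P : Subgroup G) ≤ C ⊔ P))
      rw [hj]; exact dvd_pow_self p hj0.ne'
  have hcomm : ∀ a ∈ C, ∀ b ∈ C, a * b = b * a := by
    letI := IsCyclic.commGroup (α := C)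
    intro a ha b hb
    exact congrArg Subtype.val (mul_comm (⟨a, ha⟩ : C) ⟨b, hb⟩)
  obtain ⟨n, hn⟩ := (IsPGroup.iff_card).1 P.2
  have hcop' : Nat.Coprime (Nat.card C) (Nat.card (P : Subgroup G)) := by
    rw [hn]; exact Nat.Coprime.pow_right n hcop
  set Z := C ⊓ Subgroup.centralizer ((P : Subgroup G) : Set G) with hZdef
  set E := Z ⊔ (P : Subgroup G) with hEdef
  have hZcen : Z ≤ Subgroup.center G := by
    intro z hz
    have h1 : C ⊔ (P : Subgroup G) ≤ Subgroup.centralizer ({z} : Set G) := by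
      rw [sup_le_iff]
      constructor
      · intro c hc
        rw [Subgroup.mem_centralizer_singleton_iff]
        exact hcomm c hc z hz.1
      · intro u hu
        rw [Subgroup.mem_centralizer_singleton_iff]
        exact Subgroup.mem_centralizer_iff.1 hz.2 u hu
    rw [hCP] at h1
    rw [Subgroup.mem_center_iff]
    intro g
    exact Subgroup.mem_centralizer_singleton_iff.1 (h1 (Subgroup.mem_top g))
  have hE : E ≠ ⊤ := by
    intro hE
    apply hnE
    haveI : IsCyclic Z := Subgroup.isCyclic_of_le (inf_le_left : Z ≤ C)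
    obtain ⟨g, hg⟩ := IsCyclic.exists_generator (α := Z)
    have hz : Subgroup.zpowers (g : G) = Z := by
      apply le_antisymm
      · rw [Subgroup.zpowers_le]; exact g.2
      · intro s hs
        obtain ⟨j, hj⟩ := Subgroup.mem_zpowers_iff.1 (hg ⟨s, hs⟩)
        rw [Subgroup.mem_zpowers_iff]
        exact ⟨j, by simpa using congrArg Subtype.val hj⟩
    haveI hZn : Z.Normal := by
      constructor
      intro n hn g
      have := Subgroup.mem_center_iff.1 (hZcen hn) g
      rw [this, mul_assoc, mul_inv_cancel, mul_one]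
      exact hn
    refine ⟨(g : G), hZcen g.2, ?_, ?_⟩
    · rw [← Nat.card_zpowers, hz]
      exact Nat.Coprime.coprime_dvd_left (Subgroup.card_dvd_of_le inf_le_left) hcop
    · rw [hz, ← Subgroup.relIndex_top_right, ← hE, hEdef, Subgroup.relIndex_sup_left]
      have h2 : Z.relIndex (P : Subgroup G) ∣ p ^ n := by
        rw [← hn]; exact Subgroup.relIndex_dvd_card _ _
      obtain ⟨j, _, hj⟩ := (Nat.dvd_prime_pow hp).1 h2
      exact ⟨j, hj⟩
  haveI := finite_irr (G := G)
  cases nonempty_fintype (Cfsg.IrrCharacter G)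
  have hone : Cfsg.IsCharacter E (fun _ => (1 : ℂ)) := IsIrrCharacter.isCharacter isIrrCharacter_one
  have hπ : Cfsg.IsCharacter G (Cfsg.indFun E (fun _ => 1)) := IsCharacter.indFun E hone
  obtain ⟨m, hm⟩ := IsCharacter.exists_eq_sum hπ
  have hmψ : ∀ ψ : Cfsg.IrrCharacter G,
      Cfsg.classInner (Cfsg.indFun E (fun _ => 1)) (ψ : G → ℂ) = m ψ := by
    intro ψ
    conv_lhs => rw [hm]
    rw [classInner_sum_irr_left]
  let one : Cfsg.IrrCharacter G := ⟨fun _ => 1, isIrrCharacter_one⟩
  have hm1 : m one = 1 := by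
    have h1 := hmψ one
    rw [frobenius_reciprocity E _ _ (IsCharacter.isClassFunction
      (IsIrrCharacter.isCharacter one.2))] at h1
    have h2 : Cfsg.classInner (fun _ : E => (1 : ℂ)) (fun h : E => (one : G → ℂ) h) = 1 := by
      have := classInner_irr (isIrrCharacter_one (G := E)) (isIrrCharacter_one (G := E))
      rw [if_pos rfl] at this
      exact this
    rw [h2] at h1
    exact_mod_cast h1.symm
  have hdec : (fun _ : G => (1 : ℂ)) = Cfsg.indFun E (fun _ => 1)
      - ∑ ψ ∈ Finset.univ.erase one, (m ψ : ℂ) • (ψ : G → ℂ) := by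
    conv_rhs => rw [hm]
    rw [← Finset.add_sum_erase _ _ (Finset.mem_univ one), hm1]
    simp [one]
  rw [hdec]
  apply Submodule.sub_mem
  · exact Submodule.subset_span ⟨E, _, hE, hone, rfl⟩
  · apply Submodule.sum_mem
    intro ψ hψ
    by_cases h0 : m ψ = 0
    · rw [h0, Nat.cast_zero, zero_smul]; exact Submodule.zero_mem _
    · rw [Nat.cast_smul_eq_nsmul]
      apply nsmul_mem
      have hne : (ψ : G → ℂ) ≠ fun _ => 1 := by
        intro h
        exact (Finset.mem_erase.1 hψ).1 (Subtype.ext h)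
      obtain ⟨T, ψ', hT, hψ', hind⟩ := induced_of_constituent C (P : Subgroup G) hcomm hcop' hCP
        ψ.2 hne (by rw [hmψ]; exact_mod_cast h0)
      exact Submodule.subset_span ⟨T, ψ', hT, IsIrrCharacter.isCharacter hψ', hind.symm⟩

theorem indFun_zero (T : Subgroup G) : Cfsg.indFun T (0 : T → ℂ) = 0 := by
  have := indFun_smul T 0 (0 : T → ℂ)
  simpa using this

theorem indFun_mem_elSpan (T : Subgroup G) [Fintype T] {f : T → ℂ} (hf : f ∈ elSpan T) :
    Cfsg.indFun T f ∈ elSpan G := by
  unfold elSpan at hf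
  induction hf using Submodule.span_induction with
  | mem f hf =>
    obtain ⟨E', lam', ⟨p, hp, hel⟩, rfl⟩ := hf
    rw [indFun_indFun_map]
    apply Submodule.subset_span
    exact ⟨E'.map T.subtype, lam'.comp
      (E'.equivMapOfInjective T.subtype T.subtype_injective).symm.toMonoidHom,
      ⟨p, hp, isElementary_of_equiv (E'.equivMapOfInjective T.subtype T.subtype_injective) hel⟩, rfl⟩
  | zero => rw [indFun_zero]; exact Submodule.zero_mem _
  | add a b _ _ ha hb => rw [indFun_add]; exact Submodule.add_mem _ ha hb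
  | smul c a _ ha =>
    rw [← Int.cast_smul_eq_zsmul ℂ, indFun_smul, Int.cast_smul_eq_zsmul]
    exact Submodule.smul_mem _ c ha

theorem brauer_aux : ∀ (n : ℕ) (G : Type u) [Group G] [Fintype G], Nat.card G = n →
    ∀ χ : G → ℂ, Cfsg.IsCharacter G χ → χ ∈ elSpan G := by
  intro n
  induction n using Nat.strong_induction_on with
  | _ n ih =>
  intro G _ _ hn χ hχ
  classical
  by_cases hel : ∃ p : ℕ, p.Prime ∧ Cfsg.IsElementary p G
  · obtain ⟨p, hp, hel⟩ := hel
    haveI := isNilpotent_of_isElementary hp hel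
    haveI := finite_irr (G := G)
    cases nonempty_fintype (Cfsg.IrrCharacter G)
    obtain ⟨m, hm⟩ := IsCharacter.exists_eq_sum hχ
    rw [hm]
    apply Submodule.sum_mem
    intro ψ _
    rw [Nat.cast_smul_eq_nsmul]
    apply nsmul_mem
    obtain ⟨H, lam, h⟩ := monomial_of_nilpotent (ψ : G → ℂ) ψ.2
    exact Submodule.subset_span ⟨H, lam, ⟨p, hp, isElementary_subgroup hp hel H⟩, h⟩
  · have h1 : (fun _ : G => (1 : ℂ)) ∈ propSpan G := by
      by_cases hQ : QEany (⊤ : Subgroup G)
      · obtain ⟨p, hp, hQE⟩ := hQ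
        exact one_mem_propSpan_of_QE hp hQE (fun h => hel ⟨p, hp, h⟩)
      · exact one_mem_propSpan_of_not_QE hQ
    have key : ∀ f ∈ propSpan G, f * χ ∈ elSpan G := by
      intro f hf
      unfold propSpan at hf
      induction hf using Submodule.span_induction with
      | mem f hf =>
        obtain ⟨T, ψ, hT, hψ, rfl⟩ := hf
        rw [← indFun_mul_restrict T ψ (IsCharacter.isClassFunction hχ)]
        apply indFun_mem_elSpan
        have hlt : Nat.card T < n := by
          rw [← hn]
          by_contra hc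
          push Not at hc
          exact hT (Subgroup.eq_top_of_card_eq T (le_antisymm (Subgroup.card_le_card_group T) hc))
        exact ih _ hlt T rfl _ (IsCharacter.mul hψ (IsCharacter.restrict T hχ))
      | zero => rw [zero_mul]; exact Submodule.zero_mem _
      | add a b _ _ ha hb => rw [add_mul]; exact Submodule.add_mem _ ha hb
      | smul c a _ ha => rw [smul_mul_assoc]; exact Submodule.smul_mem _ c ha
    have := key _ h1
    have h2 : (fun _ : G => (1 : ℂ)) * χ = χ := by funext g; simp
    rwa [h2] at this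

/-- **Brauer's induction theorem.** -/
theorem brauer {χ : G → ℂ} (hχ : Cfsg.IsCharacter G χ) : χ ∈ elSpan G :=
  brauer_aux _ G rfl χ hχ

/-- **Brauer's characterization of characters.** -/
theorem brauer_characterization {θ : G → ℂ} (hθ : Cfsg.IsClassFunction G θ)
    (hE : ∀ (E : Subgroup G) (p : ℕ), p.Prime → Cfsg.IsElementary p E →
      Cfsg.IsGeneralizedCharacter E (fun e : E => θ e)) : Cfsg.IsGeneralizedCharacter G θ := by
  have h1 : (fun _ : G => (1 : ℂ)) ∈ elSpan G := brauer (IsIrrCharacter.isCharacter isIrrCharacter_one)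
  have key : ∀ f ∈ elSpan G, Cfsg.IsGeneralizedCharacter G (f * θ) := by
    intro f hf
    unfold elSpan at hf
    induction hf using Submodule.span_induction with
    | mem f hf =>
      obtain ⟨E, lam, ⟨p, hp, hel⟩, rfl⟩ := hf
      rw [← indFun_mul_restrict E _ hθ]
      apply genChar_indFun
      exact genChar_mul (genChar_of_char (IsIrrCharacter.isCharacter (isIrrCharacter_of_hom lam)))
        (hE E p hp hel)
    | zero => rw [zero_mul]; exact genChar_zero
    | add a b _ _ ha hb => rw [add_mul]; exact genChar_add ha hb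
    | smul c a _ ha =>
      rw [smul_mul_assoc, ← Int.cast_smul_eq_zsmul ℂ]; exact genChar_zsmul c ha
  have := key _ h1
  have h2 : (fun _ : G => (1 : ℂ)) * θ = θ := by funext g; simp
  rwa [h2] at this

end Cfsg.Agent.Lib.Helper23.Brauer
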