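import Mathlib
import Cfsg.Agent.Lib.Helper23.TwoMaxClass

set_option autoImplicit false

namespace Cfsg.Agent.Lib.Helper23

universe u

/-- card of centre and central quotient of a nontrivial `p`-group of order `p ^ n`. -/
theorem card_center_quotient {p : ℕ} [hp : Fact p.Prime] {G : Type*} [Group G] [Finite G] {n : ℕ}
    (hG : Nat.card G = p ^ n) (hn : 1 ≤ n) :
    ∃ k, 1 ≤ k ∧ k ≤ n ∧ Nat.card (Subgroup.center G) = p ^ k ∧
      Nat.card (G ⧸ Subgroup.center G) = p ^ (n - k) := by
  have hP : IsPGroup p G := IsPGroup.of_card hG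
  have hnt : Nontrivial G := by
    rw [← Finite.one_lt_card_iff_nontrivial, hG]
    exact Nat.one_lt_pow (by omega) hp.out.one_lt
  have hc := hP.center_nontrivial
  have hdvd : Nat.card (Subgroup.center G) ∣ p ^ n := hG ▸ Subgroup.card_subgroup_dvd_card _
  obtain ⟨k, hk, hk'⟩ := (Nat.dvd_prime_pow hp.out).mp hdvd
  refine ⟨k, ?_, hk, hk', ?_⟩
  · by_contra hcon
    have : k = 0 := by omega
    rw [this, pow_zero] at hk'
    rw [← Finite.one_lt_card_iff_nontrivial, hk'] at hc
    exact lt_irrefl _ hc
  · have h1 := Subgroup.card_mul_index (Subgroup.center G)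
    rw [hk', hG, Subgroup.index_eq_card] at h1
    have h2 : p ^ n = p ^ k * p ^ (n - k) := by rw [← pow_add]; congr 1; omega
    rw [h2] at h1
    exact Nat.eq_of_mul_eq_mul_left (pow_pos hp.out.pos k) h1

theorem isMulCommutative_of_card_center_quotient_dvd {p : ℕ} [hp : Fact p.Prime] {G : Type*}
    [Group G] (h : Nat.card (G ⧸ Subgroup.center G) ∣ p) : IsMulCommutative G := by
  have := isCyclic_of_card_dvd_prime h
  exact MonoidHom.isMulCommutative_of_isCyclic_of_ker_le_center
    (QuotientGroup.mk' (Subgroup.center G)) (by rw [QuotientGroup.ker_mk'])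

/-- A group of order `p ^ n`, `n ≥ 2`, has class at most `n - 1`. -/
theorem nilpotencyClass_le_of_card (p : ℕ) [hp : Fact p.Prime] : ∀ n : ℕ, ∀ (G : Type u) [Group G]
    [Finite G], Nat.card G = p ^ n → 2 ≤ n → Group.nilpotencyClass G ≤ n - 1 := by
  intro n
  induction n using Nat.strong_induction_on with
  | _ n ih =>
    intro G _ _ hG hn
    have hP : IsPGroup p G := IsPGroup.of_card hG
    have hnil := hP.isNilpotent
    obtain ⟨k, hk1, hkn, hkc, hkq⟩ := card_center_quotient hG (by omega)
    by_cases h2 : 2 ≤ n - k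
    · have := ih (n - k) (by omega) (G ⧸ Subgroup.center G) hkq h2
      rw [Group.nilpotencyClass_quotient_center] at this
      omega
    · have hcomm : IsMulCommutative G := by
        apply isMulCommutative_of_card_center_quotient_dvd (p := p)
        rw [hkq]
        calc p ^ (n - k) ∣ p ^ 1 := pow_dvd_pow p (by omega)
          _ = p := pow_one p
      have := Group.IsNilpotent.nilpotencyClass_le_one_iff.mpr hcomm
      omega

/-- centre of a nonabelian 2-group with `|G : G'| = 4`. -/
theorem card_center_eq_two {G : Type*} [Group G] [Finite G] (h2 : IsPGroup 2 G)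
    (h4 : (commutator G).index = 4) (hna : commutator G ≠ ⊥) :
    Nat.card (Subgroup.center G) = 2 ∧ Subgroup.center G ≤ commutator G := by
  have : Fact (Nat.Prime 2) := ⟨Nat.prime_two⟩
  obtain ⟨m, a, g, hm2, hm, hcard, hg, hidx, hfix, hgg, hconj⟩ := taussky h2 h4 hna
  have hzsq : (a ^ 2 ^ (m - 1)) ^ 2 = 1 := by
    rw [← pow_mul, ← pow_succ, Nat.sub_add_cancel (by omega), ← hm, pow_orderOf_eq_one]
  have hle : Subgroup.center G ≤ Subgroup.zpowers (a ^ 2 ^ (m - 1)) := by
    intro x hx
    have hxc := Subgroup.mem_center_iff.mp hx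
    by_cases hxA : x ∈ Subgroup.zpowers a
    · rcases hfix x hxA (hxc g).symm with h | h
      · rw [h]; exact Subgroup.one_mem _
      · rw [h]; exact Subgroup.mem_zpowers _
    · exfalso
      have hc : g⁻¹ * x ∈ Subgroup.zpowers a := by
        rw [Subgroup.mul_mem_iff_of_index_two hidx, inv_mem_iff]
        exact ⟨fun h => absurd h hg, fun h => absurd h hxA⟩
      obtain ⟨k, hk⟩ := Subgroup.mem_zpowers_iff.mp hc
      have hx' : x = g * a ^ k := by rw [hk]; group
      have h1 := hxc a
      rw [hx'] at h1
      have h3 : a * g = g * a := by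
        have h5 : a * g * a ^ k = g * a * a ^ k := by
          calc a * g * a ^ k = a * (g * a ^ k) := by group
            _ = g * a ^ k * a := h1
            _ = g * (a ^ k * a) := by group
            _ = g * (a * a ^ k) := by rw [(Commute.refl a).zpow_left k |>.eq]
            _ = g * a * a ^ k := by group
        exact mul_right_cancel h5
      have ho4 : 4 ≤ orderOf a := by
        rw [hm]
        calc 4 = 2 ^ 2 := by norm_num
          _ ≤ 2 ^ m := Nat.pow_le_pow_right (by norm_num) hm2
      rcases hfix a (Subgroup.mem_zpowers a) h3 with h | h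
      · rw [h, orderOf_one] at ho4; omega
      · have : a ^ 2 = 1 := by
          conv_lhs => rw [h]
          exact hzsq
        have := orderOf_le_of_pow_eq_one (by norm_num) this
        omega
  obtain ⟨z, hz', hzc, hz2⟩ := exists_central_involution_of_normal h2 (commutator G) hna
  have h1 : Nat.card (Subgroup.center G) ∣ 2 := by
    refine (Subgroup.card_dvd_of_le hle).trans ?_
    rw [Nat.card_zpowers]
    exact orderOf_dvd_of_pow_eq_one hzsq
  have h3 : Subgroup.zpowers z ≤ Subgroup.center G := Subgroup.zpowers_le.mpr hzc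
  have h5 : 2 ∣ Nat.card (Subgroup.center G) := by
    have := Subgroup.card_dvd_of_le h3
    rwa [Nat.card_zpowers, hz2] at this
  have h6 : Nat.card (Subgroup.center G) = 2 := Nat.dvd_antisymm h1 h5
  refine ⟨h6, ?_⟩
  have h7 : Subgroup.zpowers z = Subgroup.center G :=
    Subgroup.eq_of_le_of_card_ge h3 (by rw [Nat.card_zpowers, hz2, h6])
  rw [← h7]
  exact Subgroup.zpowers_le.mpr hz'

/-- `|X : X'| = 4` implies maximal class. -/
theorem nilpotencyClass_of_index_commutator : ∀ n : ℕ, 2 ≤ n → ∀ (X : Type u) [Group X] [Finite X],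
    Nat.card X = 2 ^ n → (commutator X).index = 4 → Group.nilpotencyClass X = n - 1 := by
  have : Fact (Nat.Prime 2) := ⟨Nat.prime_two⟩
  intro n hn
  induction n, hn using Nat.le_induction with
  | base =>
    intro X _ _ hX h4
    have hP : IsPGroup 2 X := IsPGroup.of_card hX
    have hnil := hP.isNilpotent
    have h1 := Subgroup.card_mul_index (commutator X)
    rw [h4, hX] at h1
    have h3 : Nat.card (commutator X) = 1 := by omega
    have hcomm : IsMulCommutative X := (commutator_eq_bot_iff X).mp (Subgroup.card_eq_one.mp h3)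
    have h5 := Group.IsNilpotent.nilpotencyClass_le_one_iff.mpr hcomm
    have h6 : Group.nilpotencyClass X ≠ 0 := by
      rw [Ne, Group.nilpotencyClass_zero_iff_subsingleton]
      intro hs
      have := Nat.card_eq_one_iff_unique.mpr ⟨hs, ⟨1⟩⟩
      rw [hX] at this
      norm_num at this
    omega
  | succ n hn ih =>
    intro X _ _ hX h4
    have hP : IsPGroup 2 X := IsPGroup.of_card hX
    have hnil := hP.isNilpotent
    have hna : commutator X ≠ ⊥ := by
      intro h
      have h1 := Subgroup.card_mul_index (commutator X)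
      rw [h4, hX, h] at h1
      simp only [Subgroup.card_bot, one_mul] at h1
      have : 2 ^ 3 ≤ 2 ^ (n + 1) := Nat.pow_le_pow_right (by norm_num) (by omega)
      omega
    obtain ⟨hc2, hcle⟩ := card_center_eq_two hP h4 hna
    have hq : Nat.card (X ⧸ Subgroup.center X) = 2 ^ n := by
      have h1 := Subgroup.card_mul_index (Subgroup.center X)
      rw [hc2, hX, Subgroup.index_eq_card, pow_succ] at h1
      omega
    have := ih (X ⧸ Subgroup.center X) hq (by rw [index_commutator_quotient _ hcle, h4])
    rw [Group.nilpotencyClass_quotient_center] at this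
    omega

/-- maximal class implies `|X : X'| = 4`. -/
theorem index_commutator_of_nilpotencyClass : ∀ n : ℕ, 2 ≤ n → ∀ (X : Type u) [Group X] [Finite X],
    Nat.card X = 2 ^ n → Group.nilpotencyClass X = n - 1 → (commutator X).index = 4 := by
  have : Fact (Nat.Prime 2) := ⟨Nat.prime_two⟩
  intro n hn
  induction n, hn using Nat.le_induction with
  | base =>
    intro X _ _ hX hc
    have hP : IsPGroup 2 X := IsPGroup.of_card hX
    have hnil := hP.isNilpotent
    have hcomm : IsMulCommutative X :=
      Group.IsNilpotent.nilpotencyClass_le_one_iff.mp (by omega)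
    rw [(commutator_eq_bot_iff X).mpr hcomm, Subgroup.index_bot, hX]
    norm_num
  | succ n hn ih =>
    intro X _ _ hX hc
    have hP : IsPGroup 2 X := IsPGroup.of_card hX
    have hnil := hP.isNilpotent
    have hncomm : ¬ IsMulCommutative X := by
      intro h
      have := Group.IsNilpotent.nilpotencyClass_le_one_iff.mpr h
      omega
    have hna : commutator X ≠ ⊥ := fun h => hncomm ((commutator_eq_bot_iff X).mp h)
    obtain ⟨k, hk1, hkn, hkc, hkq⟩ := card_center_quotient hX (by omega)
    have hcq : Group.nilpotencyClass (X ⧸ Subgroup.center X) = n - 1 := by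
      rw [Group.nilpotencyClass_quotient_center, hc]; omega
    have hk : k = 1 := by
      by_contra hcon
      by_cases h2 : 2 ≤ n + 1 - k
      · have := nilpotencyClass_le_of_card 2 (n + 1 - k) (X ⧸ Subgroup.center X) hkq h2
        omega
      · apply hncomm
        apply isMulCommutative_of_card_center_quotient_dvd (p := 2)
        rw [hkq]
        calc 2 ^ (n + 1 - k) ∣ 2 ^ 1 := pow_dvd_pow 2 (by omega)
          _ = 2 := pow_one 2
    subst hk
    obtain ⟨z, hz', hzc, hz2⟩ := exists_central_involution_of_normal hP (commutator X) hna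
    have h7 : Subgroup.zpowers z = Subgroup.center X :=
      Subgroup.eq_of_le_of_card_ge (Subgroup.zpowers_le.mpr hzc)
        (by rw [Nat.card_zpowers, hz2, hkc, pow_one])
    have hcle : Subgroup.center X ≤ commutator X := by
      rw [← h7]; exact Subgroup.zpowers_le.mpr hz'
    rw [← index_commutator_quotient _ hcle]
    exact ih (X ⧸ Subgroup.center X) (by rw [hkq]; congr 1) hcq

end Cfsg.Agent.Lib.Helper23
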