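import Mathlib
import Cfsg.Prelude.Def_Characters
import Cfsg.Agent.Lib.Helper23.Brauer

set_option autoImplicit false

namespace Cfsg.Agent.Lib.Helper23.PReg

open Cfsg.Agent.Lib.Helper2 Cfsg.Agent.Lib.Helper13 Cfsg.Agent.Lib.Lead Cfsg.Agent.Lib.Helper24
open Cfsg.Agent.Lib.Helper23.IndTools Cfsg.Agent.Lib.Helper23.Brauer

universe u

theorem exists_normal_compl_of_isElementary {q p : ℕ} (hq : q.Prime) [hp : Fact p.Prime]
    {E : Type u} [Group E] [Finite E] (h : Cfsg.IsElementary q E) :
    ∃ K : Subgroup E, K.Normal ∧ Nat.Coprime (Nat.card K) p ∧ ∃ b : ℕ, K.index = p ^ b := by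
  obtain ⟨x, hx, hcop, k, hk⟩ := h
  have hle : Subgroup.zpowers x ≤ Subgroup.center E := by
    rw [Subgroup.zpowers_le]; exact hx
  haveI hnorm : (Subgroup.zpowers x).Normal := by
    constructor
    intro n hn g
    have := Subgroup.mem_center_iff.1 (hle hn) g
    rw [this, mul_assoc, mul_inv_cancel, mul_one]
    exact hn
  by_cases hpq : p = q
  · subst hpq
    exact ⟨Subgroup.zpowers x, hnorm, by rw [Nat.card_zpowers]; exact hcop, k, hk⟩
  · obtain ⟨P⟩ : Nonempty (Sylow p E) := inferInstance
    have hPx : (P : Subgroup E) ≤ Subgroup.zpowers x := by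
      intro u hu
      rw [← QuotientGroup.eq_one_iff, ← orderOf_eq_one_iff]
      obtain ⟨j, hj⟩ := P.2 ⟨u, hu⟩
      have hj' : u ^ p ^ j = 1 := by simpa using congrArg Subtype.val hj
      have h1 : orderOf ((u : E ⧸ Subgroup.zpowers x)) ∣ p ^ j := by
        apply orderOf_dvd_of_pow_eq_one
        rw [← QuotientGroup.mk_pow, hj']; rfl
      have h2 : orderOf ((u : E ⧸ Subgroup.zpowers x)) ∣ q ^ k := by
        rw [← hk]
        exact orderOf_dvd_natCard _
      have h3 : Nat.Coprime (p ^ j) (q ^ k) :=
        Nat.Coprime.pow _ _ ((Nat.coprime_primes hp.out hq).2 hpq)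
      exact Nat.eq_one_of_dvd_coprimes h3 h1 h2
    have hP : Subgroup.normalizer ((P : Subgroup E) : Set E) ≤
        Subgroup.centralizer ((P : Subgroup E) : Set E) := by
      intro g _
      rw [Subgroup.mem_centralizer_iff]
      intro u hu
      exact (Subgroup.mem_center_iff.1 (hle (hPx hu)) g).symm
    have hc := MonoidHom.ker_transferSylow_isComplement' P hP
    refine ⟨(MonoidHom.transferSylow P hP).ker, inferInstance, ?_, ?_⟩
    · exact ((Nat.Prime.coprime_iff_not_dvd hp.out).2
        (MonoidHom.not_dvd_card_ker_transferSylow P hP)).symm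
    · obtain ⟨n, hn⟩ := (IsPGroup.iff_card).1 P.2
      refine ⟨n, ?_⟩
      rw [← hn]
      exact hc.symm.index_eq_card.symm ▸ rfl

theorem dvd_orderOf_iff_not_mem {p : ℕ} [hp : Fact p.Prime] {E : Type u} [Group E] [Finite E]
    (K : Subgroup E) [K.Normal] (hc : Nat.Coprime (Nat.card K) p) {b : ℕ} (hb : K.index = p ^ b)
    (e : E) : p ∣ orderOf e ↔ e ∉ K := by
  constructor
  · intro h he
    have h1 : orderOf e ∣ Nat.card K := by
      have := orderOf_dvd_natCard (⟨e, he⟩ : K)
      rwa [Subgroup.orderOf_mk] at this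
    have h2 : p ∣ Nat.card K := h.trans h1
    have h3 := Nat.Coprime.eq_one_of_dvd hc.symm h2
    exact hp.out.ne_one h3
  · intro he
    have h1 : orderOf (e : E ⧸ K) ∣ p ^ b := by
      rw [← hb]; exact orderOf_dvd_natCard _
    obtain ⟨j, _, hj⟩ := (Nat.dvd_prime_pow hp.out).1 h1
    have h2 : orderOf (e : E ⧸ K) ∣ orderOf e := orderOf_map_dvd (QuotientGroup.mk' K) e
    rcases Nat.eq_zero_or_pos j with rfl | hj0
    · exfalso
      apply he
      rw [pow_zero, orderOf_eq_one_iff] at hj
      exact (QuotientGroup.eq_one_iff e).1 hj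
    · apply Dvd.dvd.trans _ h2
      rw [hj]; exact dvd_pow_self p hj0.ne'

theorem indFun_one_of_normal {E : Type u} [Group E] [Fintype E] (K : Subgroup E) [K.Normal]
    [DecidablePred (· ∈ K)] (e : E) :
    Cfsg.indFun K (fun _ => 1) e = if e ∈ K then (K.index : ℂ) else 0 := by
  split_ifs with h
  · have := indFun_coe_of_normal K (fun _ => 1) ⟨e, h⟩
    rw [this]
    simp only [conjFun, Finset.sum_const, Finset.card_univ, nsmul_eq_mul, mul_one]
    rw [← Nat.card_eq_fintype_card, ← K.card_mul_index]
    have : (Nat.card K : ℂ) ≠ 0 := card_subgroup_ne_zero K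
    push_cast
    field_simp
  · exact indFun_of_not_mem_normal K _ h

/-- `p^a χ` on `p`-regular elements, zero elsewhere, is a generalized character. -/
theorem genChar_preg {G : Type u} [Group G] [Finite G] (p : ℕ) [hp : Fact p.Prime] {χ : G → ℂ}
    (hχ : Cfsg.IsCharacter G χ) :
    Cfsg.IsGeneralizedCharacter G (fun x : G => if p ∣ orderOf x then 0 else
      ((p ^ (Nat.card G).factorization p : ℕ) : ℂ) * χ x) := by
  classical
  cases nonempty_fintype G
  have hcl := IsCharacter.isClassFunction hχ
  apply brauer_characterization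
  · intro g h
    have h1 : orderOf (h * g * h⁻¹) = orderOf g := by
      have := (MulAut.conj h).orderOf_eq g
      simpa using this
    simp only [h1, hcl g h]
  · intro E q hq hel
    obtain ⟨K, hKn, hc, b, hb⟩ := exists_normal_compl_of_isElementary (p := p) hq hel
    have hba : b ≤ (Nat.card G).factorization p := by
      rw [← Nat.Prime.pow_dvd_iff_le_factorization hp.out Nat.card_pos.ne', ← hb]
      exact (Subgroup.index_dvd_card K).trans (Subgroup.card_subgroup_dvd_card E)
    have h1 : (fun e : E => if p ∣ orderOf (e : G) then (0 : ℂ) else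
        ((p ^ (Nat.card G).factorization p : ℕ) : ℂ) * χ e)
        = ((p ^ ((Nat.card G).factorization p - b) : ℕ) : ℂ) •
          (Cfsg.indFun K (fun _ => 1) * fun e : E => χ e) := by
      funext e
      simp only [Pi.smul_apply, Pi.mul_apply, smul_eq_mul]
      rw [indFun_one_of_normal, Subgroup.orderOf_coe]
      by_cases he : e ∈ K
      · rw [if_pos he, if_neg (fun h => (dvd_orderOf_iff_not_mem K hc hb e).1 h he), hb,
          ← mul_assoc, ← Nat.cast_mul, ← pow_add, Nat.sub_add_cancel hba]
      · rw [if_neg he, if_pos ((dvd_orderOf_iff_not_mem K hc hb e).2 he)]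
        simp
    rw [h1]
    apply genChar_nsmul
    exact genChar_mul (genChar_indFun K (genChar_of_char
      (IsIrrCharacter.isCharacter isIrrCharacter_one))) (genChar_of_char (IsCharacter.restrict E hχ))

end Cfsg.Agent.Lib.Helper23.PReg
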