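import Mathlib
import Cfsg.Prelude.Def_Blocks
import Cfsg.Agent.Lib.Helper6.BlockOrth
import Cfsg.Agent.Lib.Helper6.Defect
import Cfsg.Agent.Lib.Helper6.DefectOrder
import Cfsg.Agent.Lib.Helper2.InvCount
import Cfsg.Agent.Lib.Helper24.CharInt

set_option autoImplicit false

namespace Cfsg.Agent.Lib.Helper23.RealBlock

open Cfsg Cfsg.Agent.Lib.Helper2 Cfsg.Agent.Lib.Helper6
open scoped ComplexConjugate

attribute [local instance] irrFintype

theorem sum_involution_mem {ι : Type*} [DecidableEq ι] (P : ℂ → Prop) (P0 : P 0)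
    (Padd : ∀ a b, P a → P b → P (a + b)) (σ : ι → ι) (f : ι → ℂ) :
    ∀ (s : Finset ι), (∀ a ∈ s, σ a ∈ s) → (∀ a ∈ s, σ (σ a) = a) →
    (∀ a ∈ s, σ a = a → P (f a)) → (∀ a ∈ s, σ a ≠ a → P (f a + f (σ a))) →
    P (∑ a ∈ s, f a) := by
  intro s
  induction s using Finset.strongInduction with
  | H s ih =>
  intro h1 h2 h3 h4
  rcases s.eq_empty_or_nonempty with rfl | ⟨a, ha⟩
  · simpa using P0
  by_cases hfix : σ a = a
  · rw [← Finset.add_sum_erase s f ha]
    apply Padd _ _ (h3 a ha hfix)
    apply ih (s.erase a) (Finset.erase_ssubset ha)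
    · intro b hb
      rw [Finset.mem_erase] at hb ⊢
      refine ⟨?_, h1 b hb.2⟩
      intro h
      apply hb.1
      rw [← h2 b hb.2, h, hfix]
    · intro b hb; exact h2 b (Finset.mem_of_mem_erase hb)
    · intro b hb; exact h3 b (Finset.mem_of_mem_erase hb)
    · intro b hb; exact h4 b (Finset.mem_of_mem_erase hb)
  · have hσa : σ a ∈ s.erase a := Finset.mem_erase.2 ⟨hfix, h1 a ha⟩
    rw [← Finset.add_sum_erase s f ha, ← Finset.add_sum_erase (s.erase a) f hσa, ← add_assoc]
    apply Padd _ _ (h4 a ha hfix)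
    have hsub : (s.erase a).erase (σ a) ⊂ s :=
      (Finset.erase_subset _ _).trans_ssubset (Finset.erase_ssubset ha)
    have hmem : ∀ b ∈ (s.erase a).erase (σ a), b ∈ s := fun b hb =>
      Finset.mem_of_mem_erase (Finset.mem_of_mem_erase hb)
    apply ih _ hsub
    · intro b hb
      have hb' := hb
      rw [Finset.mem_erase, Finset.mem_erase] at hb ⊢
      refine ⟨?_, ?_, h1 b hb.2.2⟩
      · intro h
        apply hb.2.1
        rw [← h2 b hb.2.2, h, h2 a ha]
      · intro h
        apply hb.1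
        rw [← h2 b hb.2.2, h]
    · intro b hb; exact h2 b (hmem b hb)
    · intro b hb; exact h3 b (hmem b hb)
    · intro b hb; exact h4 b (hmem b hb)

section

variable {G : Type*} [Group G]

theorem even_index_of_real [Finite G] {x : G} (hreal : IsConj x x⁻¹) (hx : x ≠ x⁻¹) :
    2 ∣ (Subgroup.centralizer ({x} : Set G)).index := by
  have h1 := card_extCentralizer hreal hx
  have h2 := Subgroup.card_subgroup_dvd_card (extCentralizer x)
  rw [h1, ← (Subgroup.centralizer ({x} : Set G)).card_mul_index, mul_comm 2] at h2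
  exact Nat.dvd_of_mul_dvd_mul_left Nat.card_pos h2

theorem ne_inv_of_odd {x : G} (ho : Odd (orderOf x)) (hx : x ≠ 1) : x ≠ x⁻¹ := by
  intro h
  apply hx
  have h2 : x ^ 2 = 1 := by
    rw [pow_two]
    nth_rewrite 1 [h]
    exact inv_mul_cancel x
  have h3 : orderOf x ∣ 2 := orderOf_dvd_of_pow_eq_one h2
  have h4 : orderOf x = 1 := by
    rcases (Nat.dvd_prime Nat.prime_two).1 h3 with h | h
    · exact h
    · rw [h] at ho; exact absurd ho (by decide)
  exact orderOf_eq_one_iff.1 h4

theorem classFun_of_isConj {F : G → ℂ} (hF : IsClassFunction G F) {a b : G} (h : IsConj a b) :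
    F a = F b := by
  obtain ⟨c, rfl⟩ := isConj_iff.1 h
  exact (hF a c).symm

end

section main

variable {G : Type*} [Group G] [Fintype G] {M : Ideal AlgInt}

theorem isConj_inv {a b : G} (h : IsConj a b) : IsConj a⁻¹ b⁻¹ := by
  obtain ⟨c, rfl⟩ := isConj_iff.1 h
  rw [isConj_iff]
  exact ⟨c, by group⟩

theorem centralChar_of_isConj {χ : G → ℂ} (hχ : IsClassFunction G χ) {a b : G} (h : IsConj a b) :
    centralChar χ a = centralChar χ b := by
  obtain ⟨c, rfl⟩ := isConj_iff.1 h
  exact (centralChar_conj hχ a c).symm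

theorem centralChar_one {χ : G → ℂ} (h : χ 1 ≠ 0) : centralChar χ 1 = 1 := by
  unfold centralChar
  have : Subgroup.centralizer ({1} : Set G) = ⊤ := by
    rw [eq_top_iff]
    intro g _
    rw [Subgroup.mem_centralizer_singleton_iff]
    simp
  rw [this, Subgroup.index_top]
  field_simp
  simp

theorem centralChar_memLocalIdeal_of_even (hM : IsPModular 2 M) {ψ : G → ℂ}
    (hψ : IsIrrCharacter G ψ) (hodd : Odd (charDegree ψ)) {g : G}
    (hg : 2 ∣ (Subgroup.centralizer ({g} : Set G)).index) : MemLocalIdeal M (centralChar ψ g) := by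
  haveI := IsPModular.isPrime hM
  unfold centralChar
  rw [mul_div_assoc, div_eq_mul_inv]
  apply MemLocalIdeal.mul_right ((memLocalIdeal_natCast_iff hM _).2 hg)
  apply MemLocalRing.mul
  · exact memLocalRing_of_isIntegral
      (Cfsg.Agent.Lib.Helper24.char_isIntegral (IsIrrCharacter.isCharacter hψ) g)
  · rw [← Cfsg.Agent.Lib.Helper24.charDegree_cast (IsIrrCharacter.isCharacter hψ)]
    apply memLocalRing_inv_natCast hM
    intro h
    exact (Nat.not_even_iff_odd.2 hodd) (even_iff_two_dvd.2 h)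

theorem om_sub_apply_one_mem (hM : IsPModular 2 M) {F : G → ℂ} (hF : IsClassFunction G F)
    (hFl : ∀ g, MemLocalRing M (F g)) (hF0 : ∀ g, 2 ∣ orderOf g → F g = 0)
    (hFinv : ∀ g, Odd (orderOf g) → F g⁻¹ = F g)
    {ψ : G → ℂ} (hψ : IsIrrCharacter G ψ) (hodd : Odd (charDegree ψ))
    (hinv : ∀ g, Odd (orderOf g) → MemLocalIdeal M (centralChar ψ g⁻¹ - centralChar ψ g)) :
    MemLocalIdeal M (om ψ F - F 1) := by
  classical
  haveI := IsPModular.isPrime hM
  have hψcl := irr_isClassFunction hψ
  rw [om_eq_sum_classes hψcl hF]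
  have hout : ∀ x : G, IsConj (Quotient.out (ConjClasses.mk x)) x := by
    intro x
    rw [← ConjClasses.mk_eq_mk_iff_isConj]
    exact Quotient.out_eq _
  have hmk : ∀ C : ConjClasses G, ConjClasses.mk (Quotient.out C) = C := fun C => Quotient.out_eq C
  set C₁ : ConjClasses G := ConjClasses.mk 1 with hC₁
  have hout1 : Quotient.out C₁ = 1 := by
    have := hout 1
    exact isConj_one_right.1 this.symm
  rw [← Finset.add_sum_erase _ _ (Finset.mem_univ C₁), hout1, centralChar_one (irr_one_ne_zero hψ),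
    mul_one, add_sub_cancel_left]
  let σ : ConjClasses G → ConjClasses G := fun C => ConjClasses.mk (Quotient.out C)⁻¹
  have hσout : ∀ C, IsConj (Quotient.out (σ C)) (Quotient.out C)⁻¹ := fun C => hout _
  have hσσ : ∀ C, σ (σ C) = C := by
    intro C
    have h1 := isConj_inv (hσout C)
    rw [inv_inv] at h1
    change ConjClasses.mk (Quotient.out (σ C))⁻¹ = C
    rw [ConjClasses.mk_eq_mk_iff_isConj.2 h1, hmk]
  have hne1 : ∀ C ∈ Finset.univ.erase C₁, Quotient.out C ≠ 1 := by
    intro C hC h
    apply (Finset.mem_erase.1 hC).1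
    rw [← hmk C, h]
  apply sum_involution_mem (MemLocalIdeal M) memLocalIdeal_zero (fun a b => MemLocalIdeal.add) σ
  · intro C hC
    rw [Finset.mem_erase]
    refine ⟨?_, Finset.mem_univ _⟩
    intro h
    apply hne1 C hC
    have h1 : IsConj (Quotient.out C)⁻¹ 1 := ConjClasses.mk_eq_mk_iff_isConj.1 h
    have h2 := isConj_one_right.1 h1.symm
    exact inv_eq_one.1 h2
  · intro C _; exact hσσ C
  · intro C hC hfix
    set g := Quotient.out C with hg
    by_cases hpar : 2 ∣ orderOf g
    · rw [hF0 g hpar, zero_mul]; exact memLocalIdeal_zero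
    · have hoddg : Odd (orderOf g) := Nat.not_even_iff_odd.1 (fun h => hpar (even_iff_two_dvd.1 h))
      have hreal : IsConj g g⁻¹ := by
        rw [← ConjClasses.mk_eq_mk_iff_isConj, hg, hmk]
        exact hfix.symm
      apply MemLocalIdeal.mul_left (hFl g)
      exact centralChar_memLocalIdeal_of_even hM hψ hodd
        (even_index_of_real hreal (ne_inv_of_odd hoddg (hne1 C hC)))
  · intro C hC _
    set g := Quotient.out C with hg
    rw [classFun_of_isConj hF (hσout C), centralChar_of_isConj hψcl (hσout C), ← hg]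
    by_cases hpar : 2 ∣ orderOf g
    · rw [hF0 g hpar, hF0 g⁻¹ (by rwa [orderOf_inv]), zero_mul, zero_mul, add_zero]
      exact memLocalIdeal_zero
    · have hoddg : Odd (orderOf g) := Nat.not_even_iff_odd.1 (fun h => hpar (even_iff_two_dvd.1 h))
      rw [hFinv g hoddg]
      have : F g * centralChar ψ g + F g * centralChar ψ g⁻¹
          = F g * (((2 : ℕ) : ℂ) * centralChar ψ g + (centralChar ψ g⁻¹ - centralChar ψ g)) := by
        push_cast; ring
      rw [this]
      apply MemLocalIdeal.mul_left (hFl g)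
      exact MemLocalIdeal.add (MemLocalIdeal.mul_right (memLocalIdeal_p hM)
        (centralChar_memLocalRing hψ g)) (hinv g hoddg)

theorem centralizer_inv (g : G) :
    Subgroup.centralizer ({g⁻¹} : Set G) = Subgroup.centralizer ({g} : Set G) := by
  ext x
  rw [Subgroup.mem_centralizer_singleton_iff, Subgroup.mem_centralizer_singleton_iff]
  constructor
  · intro h
    have : Commute x g⁻¹ := h
    exact (Commute.inv_right_iff.1 this)
  · intro h
    have : Commute x g := h
    exact this.inv_right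

theorem eq_principalBlock_of_stable (hM : IsPModular 2 M) {B : Set (IrrCharacter G)}
    (hB : IsPBlock M B)
    (H1 : ∀ g, Odd (orderOf g) → coef (B.indicator 1) g⁻¹ = coef (B.indicator 1) g)
    (H2 : ∀ χ ∈ B, ∀ g, Odd (orderOf g) →
      MemLocalIdeal M (centralChar (χ : G → ℂ) g⁻¹ - centralChar (χ : G → ℂ) g))
    (H3 : ∃ χ ∈ B, Odd (charDegree (χ : G → ℂ))) : B = principalBlock M G := by
  classical
  haveI := IsPModular.isPrime hM
  set F := coef (B.indicator 1) with hFdef
  have hF : IsClassFunction G F := isClassFunction_coef _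
  have hFl : ∀ g, MemLocalRing M (F g) := mem_ZS.1 (IsPBlock.indicator_mem_ZS hB)
  have hF0 : ∀ g, 2 ∣ orderOf g → F g = 0 := fun g hg => coef_indicator_eq_zero hM hB hg
  obtain ⟨χ, hχ, hodd⟩ := H3
  have h1 := om_sub_apply_one_mem hM hF hFl hF0 H1 χ.2 hodd (H2 χ hχ)
  rw [hFdef, om_coef, Set.indicator_of_mem hχ, ← hFdef] at h1
  let one : IrrCharacter G := ⟨fun _ => 1, isIrrCharacter_one⟩
  have hdeg : Odd (charDegree (one : G → ℂ)) := by
    have : charDegree (one : G → ℂ) = 1 := by
      change ⌊((1 : ℂ)).re⌋₊ = 1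
      simp
    rw [this]; exact odd_one
  have h2 := om_sub_apply_one_mem hM hF hFl hF0 H1 one.2 hdeg (by
    intro g _
    have : centralChar (one : G → ℂ) g⁻¹ = centralChar (one : G → ℂ) g := by
      unfold centralChar
      rw [centralizer_inv]
    rw [this, sub_self]
    exact memLocalIdeal_zero)
  rw [hFdef, om_coef, ← hFdef] at h2
  have hone : one ∈ B := by
    by_contra hcon
    rw [Set.indicator_of_notMem hcon] at h2
    apply not_memLocalIdeal_one (M := M)
    have h3 := MemLocalIdeal.sub h1 h2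
    rw [Pi.one_apply] at h3
    have h4 : (1 : ℂ) - F 1 - (0 - F 1) = 1 := by ring
    rwa [h4] at h3
  have h5 := IsPBlock.eq_blockOf hB hone
  rw [h5]
  rfl

theorem stable_of_tau (hM : IsPModular 2 M) {B : Set (IrrCharacter G)} (hB : IsPBlock M B)
    (τ : IrrCharacter G → IrrCharacter G) (hτB : ∀ χ ∈ B, τ χ ∈ B) (hinj : Set.InjOn τ B)
    (hval : ∀ χ ∈ B, ∀ g, Odd (orderOf g) → (τ χ : G → ℂ) g = (χ : G → ℂ) g⁻¹) :
    (∀ g, Odd (orderOf g) → coef (B.indicator 1) g⁻¹ = coef (B.indicator 1) g) ∧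
    (∀ χ ∈ B, ∀ g, Odd (orderOf g) →
      MemLocalIdeal M (centralChar (χ : G → ℂ) g⁻¹ - centralChar (χ : G → ℂ) g)) := by
  classical
  haveI := IsPModular.isPrime hM
  have hone : ∀ χ ∈ B, (τ χ : G → ℂ) 1 = (χ : G → ℂ) 1 := by
    intro χ hχ
    have := hval χ hχ 1 (by rw [orderOf_one]; exact odd_one)
    rwa [inv_one] at this
  constructor
  · intro g hg
    rw [coef_apply, coef_apply]
    congr 1
    set B' : Finset (IrrCharacter G) := Finset.univ.filter (· ∈ B) with hB'
    have hsum : ∀ h : IrrCharacter G → ℂ,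
        ∑ χ : IrrCharacter G, B.indicator 1 χ * h χ = ∑ χ ∈ B', h χ := by
      intro h
      rw [hB', Finset.sum_filter]
      apply Finset.sum_congr rfl
      intro χ _
      by_cases hχ : χ ∈ B
      · rw [Set.indicator_of_mem hχ, if_pos hχ]; simp
      · rw [Set.indicator_of_notMem hχ, if_neg hχ, zero_mul]
    rw [hsum, hsum]
    have hinj' : Set.InjOn τ (B' : Set (IrrCharacter G)) := by
      intro a ha b hb hab
      exact hinj (by simpa [hB'] using ha) (by simpa [hB'] using hb) hab
    have himg : B'.image τ = B' := by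
      apply Finset.eq_of_subset_of_card_le
      · intro ψ hψ
        obtain ⟨χ, hχ, rfl⟩ := Finset.mem_image.1 hψ
        simp only [hB', Finset.mem_filter, Finset.mem_univ, true_and] at hχ ⊢
        exact hτB χ hχ
      · rw [Finset.card_image_of_injOn hinj']
    conv_rhs => rw [← himg, Finset.sum_image hinj']
    apply Finset.sum_congr rfl
    intro χ hχ
    have hχB : χ ∈ B := by simpa [hB'] using hχ
    rw [hone χ hχB, hval χ hχB g hg]
  · intro χ hχ g hg
    have h1 : centralChar (χ : G → ℂ) g⁻¹ = centralChar (τ χ : G → ℂ) g := by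
      unfold centralChar
      rw [centralizer_inv, hone χ hχ, hval χ hχ g hg]
    rw [h1]
    exact IsPBlock.sameBlock hB (hτB χ hχ) hχ g

theorem exists_odd_of_full_defect {B : Set (IrrCharacter G)} (hne : B.Nonempty)
    (hdef : blockDefect 2 B = (Nat.card G).factorization 2) :
    ∃ χ ∈ B, Odd (charDegree (χ : G → ℂ)) := by
  have hne' : ((fun χ : IrrCharacter G => (charDegree (χ : G → ℂ)).factorization 2) '' B).Nonempty :=
    hne.image _
  obtain ⟨χ, hχ, hχe⟩ := Nat.sInf_mem hne'
  refine ⟨χ, hχ, ?_⟩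
  have hdvd := Cfsg.Agent.Lib.Helper24.degree_dvd_card χ.2
  have hpos := Cfsg.Agent.Lib.Helper24.charDegree_pos χ.2
  have hle : (charDegree (χ : G → ℂ)).factorization 2 ≤ (Nat.card G).factorization 2 :=
    (Nat.factorization_le_iff_dvd hpos.ne' Nat.card_pos.ne').2 hdvd 2
  unfold blockDefect at hdef
  rw [← hχe] at hdef
  simp only at hdef
  have h0 : (charDegree (χ : G → ℂ)).factorization 2 = 0 := by omega
  rcases (Nat.factorization_eq_zero_iff _ _).1 h0 with h | h | h
  · exact absurd Nat.prime_two h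
  · exact Nat.not_even_iff_odd.1 (fun he => h (even_iff_two_dvd.1 he))
  · omega

/-- complex conjugation on irreducible characters -/
noncomputable def conjI (χ : IrrCharacter G) : IrrCharacter G :=
  ⟨fun g => conj ((χ : G → ℂ) g), IsIrrCharacter.conj χ.2⟩

theorem conjI_injective : Function.Injective (conjI (G := G)) := by
  intro a b h
  apply Subtype.ext
  funext g
  have := congrFun (congrArg Subtype.val h) g
  exact (starRingEnd ℂ).injective this

theorem conjI_apply (χ : IrrCharacter G) (g : G) :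
    (conjI χ : G → ℂ) g = (χ : G → ℂ) g⁻¹ :=
  (IsCharacter.apply_inv (IsIrrCharacter.isCharacter χ.2) g).symm

theorem eq_principalBlock_of_conj_stable (hM : IsPModular 2 M) {B : Set (IrrCharacter G)}
    (hB : IsPBlock M B) (hconj : ∀ χ ∈ B, conjI χ ∈ B)
    (H3 : ∃ χ ∈ B, Odd (charDegree (χ : G → ℂ))) : B = principalBlock M G := by
  obtain ⟨H1, H2⟩ := stable_of_tau hM hB conjI hconj conjI_injective.injOn
    (fun χ _ g _ => conjI_apply χ g)
  exact eq_principalBlock_of_stable hM hB H1 H2 H3

end main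

end Cfsg.Agent.Lib.Helper23.RealBlock
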