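import Mathlib
import Cfsg.Prelude.Def_Blocks
import Cfsg.Agent.Lib.Helper23.PReg
import Cfsg.Agent.Lib.Helper23.RealBlock

set_option autoImplicit false

namespace Cfsg.Agent.Lib.Helper23.RegInner

open Cfsg Cfsg.Agent.Lib.Helper2 Cfsg.Agent.Lib.Helper6 Cfsg.Agent.Lib.Lead
open Cfsg.Agent.Lib.Helper23.RealBlock Cfsg.Agent.Lib.Helper23.PReg
open scoped ComplexConjugate

attribute [local instance] irrFintype

theorem int_dvd_of_isIntegral_div {a : ℤ} {b : ℕ} (hb : b ≠ 0)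
    (h : IsIntegral ℤ ((a : ℂ) / (b : ℂ))) : (b : ℤ) ∣ a := by
  rcases Int.natAbs_eq a with ha | ha
  · rw [ha] at h ⊢
    have h1 : IsIntegral ℤ (((a.natAbs : ℕ) : ℂ) / (b : ℂ)) := by
      rwa [Int.cast_natCast] at h
    exact_mod_cast dvd_of_isIntegral_div hb h1
  · rw [ha] at h ⊢
    have h1 : IsIntegral ℤ (((a.natAbs : ℕ) : ℂ) / (b : ℂ)) := by
      have := h.neg
      have e : -(((-(a.natAbs : ℤ) : ℤ) : ℂ) / (b : ℂ)) = ((a.natAbs : ℕ) : ℂ) / (b : ℂ) := by
        rw [Int.cast_neg, Int.cast_natCast]; ring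
      rwa [e] at this
    rw [dvd_neg]
    exact_mod_cast dvd_of_isIntegral_div hb h1

variable {G : Type*} [Group G] [Fintype G] (p : ℕ)

/-- `χ̃` : `p^a χ` on `p`-regular elements, zero elsewhere -/
noncomputable def tilde (χ : G → ℂ) : G → ℂ :=
  fun x => if p ∣ orderOf x then (0 : ℂ) else ((p ^ (Nat.card G).factorization p : ℕ) : ℂ) * χ x

/-- `χ` on `p`-regular elements, zero elsewhere -/
noncomputable def regF (χ : G → ℂ) : G → ℂ :=
  fun x => if p ∣ orderOf x then (0 : ℂ) else χ x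

/-- unnormalised inner product on `p`-regular elements -/
noncomputable def mm (χ ψ : G → ℂ) : ℂ := ∑ x : G, regF p χ x * conj (ψ x)

theorem orderOf_conj' (g h : G) : orderOf (h * g * h⁻¹) = orderOf g := by
  have := (MulAut.conj h).orderOf_eq g
  simpa using this

theorem isClassFunction_regF {χ : G → ℂ} (hχ : IsClassFunction G χ) :
    IsClassFunction G (regF p χ) := by
  intro g h
  simp only [regF, orderOf_conj', hχ g h]

theorem isClassFunction_tilde {χ : G → ℂ} (hχ : IsClassFunction G χ) :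
    IsClassFunction G (tilde p χ) := by
  intro g h
  simp only [tilde, orderOf_conj', hχ g h]

theorem tilde_eq (χ : G → ℂ) :
    tilde p χ = ((p ^ (Nat.card G).factorization p : ℕ) : ℂ) • regF p χ := by
  funext x
  simp only [tilde, regF, Pi.smul_apply, smul_eq_mul]
  split_ifs <;> simp

theorem classInner_tilde (χ ψ : G → ℂ) : classInner (tilde p χ) ψ =
    (Nat.card G : ℂ)⁻¹ * (((p ^ (Nat.card G).factorization p : ℕ) : ℂ) * mm p χ ψ) := by
  rw [tilde_eq, classInner_smul_left]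
  unfold classInner mm
  ring

variable [hp : Fact p.Prime]

theorem exists_int (χ ψ : IrrCharacter G) : ∃ n : ℤ, classInner (tilde p (χ : G → ℂ)) ψ = n := by
  obtain ⟨c, hc⟩ := genChar_exists_eq_sum (genChar_preg p (IsIrrCharacter.isCharacter χ.2))
  refine ⟨c ψ, ?_⟩
  unfold tilde
  rw [hc, classInner_sum_irr_left]

/-- the integers `[χ̃, ψ]` -/
noncomputable def nn (χ ψ : IrrCharacter G) : ℤ := (exists_int p χ ψ).choose

theorem nn_spec (χ ψ : IrrCharacter G) : classInner (tilde p (χ : G → ℂ)) ψ = nn p χ ψ :=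
  (exists_int p χ ψ).choose_spec

theorem tilde_eq_sum (χ : IrrCharacter G) :
    tilde p (χ : G → ℂ) = ∑ ψ : IrrCharacter G, (nn p χ ψ : ℂ) • (ψ : G → ℂ) := by
  conv_lhs => rw [classFunction_eq_sum (isClassFunction_tilde p (irr_isClassFunction χ.2))]
  simp only [nn_spec]

variable (G) in
/-- the `p'`-part of the group order -/
noncomputable def gz : ℕ := ordCompl[p] (Nat.card G)

theorem card_eq : Nat.card G = p ^ (Nat.card G).factorization p * gz G p :=
  (Nat.ordProj_mul_ordCompl_eq_self (Nat.card G) p).symm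

theorem not_dvd_compl : ¬ p ∣ gz G p :=
  Nat.not_dvd_ordCompl hp.out Nat.card_pos.ne'

theorem mm_eq (χ ψ : IrrCharacter G) :
    mm p (χ : G → ℂ) ψ = ((gz G p : ℕ) : ℂ) * nn p χ ψ := by
  rw [← nn_spec, classInner_tilde]
  have h1 : (Nat.card G : ℂ) = ((p ^ (Nat.card G).factorization p : ℕ) : ℂ) *
      ((gz G p : ℕ) : ℂ) := by
    rw [← Nat.cast_mul, ← card_eq]
  have h2 : (Nat.card G : ℂ) ≠ 0 := by
    have : 0 < Nat.card G := Nat.card_pos
    exact_mod_cast this.ne'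
  have h3 : ((p ^ (Nat.card G).factorization p : ℕ) : ℂ) ≠ 0 := by
    intro h; rw [h, zero_mul] at h1; exact h2 h1
  have h4 : ((gz G p : ℕ) : ℂ) ≠ 0 := by
    intro h; rw [h, mul_zero] at h1; exact h2 h1
  rw [h1]
  field_simp

theorem conjI_one (ψ : IrrCharacter G) : (conjI ψ : G → ℂ) 1 = (ψ : G → ℂ) 1 := by
  rw [conjI_apply, inv_one]

theorem om_conjI (χ ψ : IrrCharacter G) :
    om (conjI ψ : G → ℂ) (regF p (χ : G → ℂ)) = mm p (χ : G → ℂ) ψ / (ψ : G → ℂ) 1 := by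
  unfold om mm
  rw [conjI_one]
  rfl

theorem regF_isIntegral {χ : G → ℂ} (hχ : IsCharacter G χ) (x : G) :
    IsIntegral ℤ (regF p χ x) := by
  unfold regF
  split_ifs
  · exact isIntegral_zero
  · exact Cfsg.Agent.Lib.Helper24.char_isIntegral hχ x

theorem exists_al (χ ψ : IrrCharacter G) : ∃ α : ℤ,
    (charDegree (ψ : G → ℂ) : ℤ) * α = (gz G p : ℕ) * nn p χ ψ ∧
    (α : ℂ) = om (conjI ψ : G → ℂ) (regF p (χ : G → ℂ)) := by
  have h1 : IsIntegral ℤ (om (conjI ψ : G → ℂ) (regF p (χ : G → ℂ))) :=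
    Cfsg.Agent.Lib.Helper24.om_isIntegral (conjI ψ).2
      (isClassFunction_regF p (irr_isClassFunction χ.2))
      (regF_isIntegral p (IsIrrCharacter.isCharacter χ.2))
  have hpos := Cfsg.Agent.Lib.Helper24.charDegree_pos ψ.2
  have hcast := Cfsg.Agent.Lib.Helper24.charDegree_cast (IsIrrCharacter.isCharacter ψ.2)
  rw [om_conjI, mm_eq, ← hcast] at h1
  have h2 : IsIntegral ℤ (((((gz G p : ℕ) : ℤ) * nn p χ ψ : ℤ) : ℂ) /
      ((charDegree (ψ : G → ℂ) : ℕ) : ℂ)) := by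
    push_cast; exact h1
  obtain ⟨α, hα⟩ := int_dvd_of_isIntegral_div hpos.ne' h2
  refine ⟨α, hα.symm, ?_⟩
  rw [om_conjI, mm_eq, ← hcast]
  have h3 : ((charDegree (ψ : G → ℂ) : ℕ) : ℂ) ≠ 0 := by exact_mod_cast hpos.ne'
  rw [eq_div_iff h3]
  have : ((((gz G p : ℕ) : ℤ) * nn p χ ψ : ℤ) : ℂ)
      = (((charDegree (ψ : G → ℂ) : ℤ) * α : ℤ) : ℂ) := by rw [hα]
  push_cast at this
  rw [this]; ring

/-- the integers `α(χ,ψ) = g₀ [χ̃,ψ] / ψ(1)` -/
noncomputable def al (χ ψ : IrrCharacter G) : ℤ := (exists_al p χ ψ).choose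

theorem al_mul (χ ψ : IrrCharacter G) :
    (charDegree (ψ : G → ℂ) : ℤ) * al p χ ψ = (gz G p : ℕ) * nn p χ ψ :=
  (exists_al p χ ψ).choose_spec.1

theorem al_cast (χ ψ : IrrCharacter G) :
    (al p χ ψ : ℂ) = om (conjI ψ : G → ℂ) (regF p (χ : G → ℂ)) :=
  (exists_al p χ ψ).choose_spec.2

theorem sameBlock_conjI {M : Ideal AlgInt} {χ ψ : IrrCharacter G}
    (h : SameBlock M (χ : G → ℂ) (ψ : G → ℂ)) :
    SameBlock M (conjI χ : G → ℂ) (conjI ψ : G → ℂ) := by
  intro g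
  have h3 : ∀ ξ : IrrCharacter G,
      centralChar (conjI ξ : G → ℂ) g = centralChar (ξ : G → ℂ) g⁻¹ := by
    intro ξ
    unfold centralChar
    rw [centralizer_inv, conjI_apply, conjI_apply, inv_one]
  rw [h3, h3]
  exact h g⁻¹

theorem al_congr {M : Ideal AlgInt} (hM : IsPModular p M) (χ : IrrCharacter G)
    {ψ ψ' : IrrCharacter G} (h : SameBlock M (ψ : G → ℂ) (ψ' : G → ℂ)) :
    (p : ℤ) ∣ al p χ ψ - al p χ ψ' := by
  haveI := IsPModular.isPrime hM
  rw [← memLocalIdeal_intCast_iff hM]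
  push_cast
  rw [al_cast, al_cast]
  apply om_sub_memLocalIdeal (conjI ψ).2 (conjI ψ').2 (sameBlock_conjI h)
    (isClassFunction_regF p (irr_isClassFunction χ.2))
  intro g
  exact memLocalRing_of_isIntegral (regF_isIntegral p (IsIrrCharacter.isCharacter χ.2) g)

theorem degree_dvd_left (χ ψ : IrrCharacter G) :
    (charDegree (χ : G → ℂ) : ℤ) ∣ (gz G p : ℕ) * nn p χ ψ := by
  have h1 : IsIntegral ℤ (om (χ : G → ℂ) (regF p (conjI ψ : G → ℂ))) :=
    Cfsg.Agent.Lib.Helper24.om_isIntegral χ.2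
      (isClassFunction_regF p (irr_isClassFunction (conjI ψ).2))
      (regF_isIntegral p (IsIrrCharacter.isCharacter (conjI ψ).2))
  have h2 : om (χ : G → ℂ) (regF p (conjI ψ : G → ℂ)) = mm p (χ : G → ℂ) ψ / (χ : G → ℂ) 1 := by
    unfold om mm
    congr 1
    apply Finset.sum_congr rfl
    intro x _
    simp only [regF]
    split_ifs
    · simp
    · rw [mul_comm]; rfl
  have hpos := Cfsg.Agent.Lib.Helper24.charDegree_pos χ.2
  have hcast := Cfsg.Agent.Lib.Helper24.charDegree_cast (IsIrrCharacter.isCharacter χ.2)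
  rw [h2, mm_eq, ← hcast] at h1
  have h3 : IsIntegral ℤ (((((gz G p : ℕ) : ℤ) * nn p χ ψ : ℤ) : ℂ) /
      ((charDegree (χ : G → ℂ) : ℕ) : ℂ)) := by
    push_cast; exact h1
  exact int_dvd_of_isIntegral_div hpos.ne' h3

theorem pow_dvd_of_dvd_compl_mul {k : ℕ} {n : ℤ}
    (h : ((p ^ k : ℕ) : ℤ) ∣ ((gz G p : ℕ) : ℤ) * n) : ((p ^ k : ℕ) : ℤ) ∣ n := by
  apply IsCoprime.dvd_of_dvd_mul_left _ h
  rw [Nat.isCoprime_iff_coprime]
  apply Nat.Coprime.pow_left
  exact (Nat.Prime.coprime_iff_not_dvd hp.out).2 (not_dvd_compl (G := G) p)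

theorem pow_dvd_nn (χ ψ : IrrCharacter G) :
    ((p ^ (charDegree (χ : G → ℂ)).factorization p : ℕ) : ℤ) ∣ nn p χ ψ := by
  apply pow_dvd_of_dvd_compl_mul (G := G) p
  apply Dvd.dvd.trans _ (degree_dvd_left p χ ψ)
  exact_mod_cast Nat.ordProj_dvd _ _

theorem mm_eq_zero_of_not_mem {M : Ideal AlgInt} (hM : IsPModular p M)
    {B' : Set (IrrCharacter G)} (hB' : IsPBlock M B') {χ ψ : IrrCharacter G} (hχ : χ ∉ B')
    (hψ : ψ ∈ B') : mm p (χ : G → ℂ) ψ = 0 := by
  classical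
  set W : G → G → ℂ := fun x y =>
    ∑ ξ : IrrCharacter G, B'.indicator 1 ξ * ((ξ : G → ℂ) y * conj ((ξ : G → ℂ) x)) with hW
  have hW1 : ∀ x y, p ∣ orderOf x → ¬ p ∣ orderOf y → W x y = 0 := by
    intro x y hx hy
    exact weak_block_orthogonality hM hB' hy hx
  have hW2 : ∀ x y, ¬ p ∣ orderOf x → p ∣ orderOf y → W x y = 0 := by
    intro x y hx hy
    have h := weak_block_orthogonality hM hB' hx hy
    have h2 := congrArg conj h
    rw [map_zero, map_sum] at h2
    rw [hW, ← h2]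
    apply Finset.sum_congr rfl
    intro ξ _
    rw [map_mul, map_mul, Complex.conj_conj]
    by_cases hξ : ξ ∈ B'
    · rw [Set.indicator_of_mem hξ]; simp [mul_comm]
    · rw [Set.indicator_of_notMem hξ]; simp
  have hT : ∀ y : G, ∑ ξ : IrrCharacter G,
      (B'.indicator 1 ξ * mm p (χ : G → ℂ) ξ) * (ξ : G → ℂ) y
      = ∑ x : G, regF p (χ : G → ℂ) x * W x y := by
    intro y
    simp only [mm, hW, Finset.mul_sum, Finset.sum_mul]
    rw [Finset.sum_comm]
    apply Finset.sum_congr rfl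
    intro x _
    apply Finset.sum_congr rfl
    intro ξ _
    ring
  have hT0 : (∑ ξ : IrrCharacter G,
      (B'.indicator 1 ξ * mm p (χ : G → ℂ) ξ) • (ξ : G → ℂ)) = 0 := by
    funext y
    rw [Finset.sum_apply]
    simp only [Pi.smul_apply, smul_eq_mul, Pi.zero_apply]
    rw [hT]
    by_cases hy : p ∣ orderOf y
    · apply Finset.sum_eq_zero
      intro x _
      by_cases hx : p ∣ orderOf x
      · simp [regF, hx]
      · rw [hW2 x y hx hy, mul_zero]
    · have h1 : ∀ x : G, regF p (χ : G → ℂ) x * W x y = (χ : G → ℂ) x * W x y := by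
        intro x
        by_cases hx : p ∣ orderOf x
        · rw [hW1 x y hx hy, mul_zero, mul_zero]
        · simp [regF, hx]
      rw [Finset.sum_congr rfl (fun x _ => h1 x)]
      simp only [hW, Finset.mul_sum]
      rw [Finset.sum_comm]
      apply Finset.sum_eq_zero
      intro ξ _
      by_cases hξ : ξ ∈ B'
      · have hne : (χ : G → ℂ) ≠ ξ := by
          intro h
          apply hχ
          rw [Subtype.ext h]; exact hξ
        have h2 := classInner_irr χ.2 ξ.2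
        rw [if_neg hne] at h2
        unfold classInner at h2
        have hG : (Nat.card G : ℂ)⁻¹ ≠ 0 := by
          apply inv_ne_zero
          have : 0 < Nat.card G := Nat.card_pos
          exact_mod_cast this.ne'
        have h3 := (mul_eq_zero.1 h2).resolve_left hG
        have h4 : ∀ x : G, (χ : G → ℂ) x * (B'.indicator 1 ξ * ((ξ : G → ℂ) y * conj ((ξ : G → ℂ) x)))
            = (B'.indicator 1 ξ * (ξ : G → ℂ) y) * ((χ : G → ℂ) x * conj ((ξ : G → ℂ) x)) := by
          intro x; ring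
        simp only [h4]
        rw [← Finset.mul_sum, h3, mul_zero]
      · apply Finset.sum_eq_zero
        intro x _
        rw [Set.indicator_of_notMem hξ]; ring
  have h5 := classInner_sum_irr_left (fun ξ => B'.indicator 1 ξ * mm p (χ : G → ℂ) ξ) ψ
  rw [hT0] at h5
  have h6 : classInner (0 : G → ℂ) (ψ : G → ℂ) = 0 := by
    unfold classInner; simp
  rw [h6, Set.indicator_of_mem hψ] at h5
  simpa using h5.symm

theorem nn_eq_zero_of_not_mem {M : Ideal AlgInt} (hM : IsPModular p M)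
    {B : Set (IrrCharacter G)} (hB : IsPBlock M B) {χ ψ : IrrCharacter G} (hχ : χ ∈ B)
    (hψ : ψ ∉ B) : nn p χ ψ = 0 := by
  haveI := IsPModular.isPrime hM
  have hB' : IsPBlock M (blockOf M (ψ : G → ℂ)) := ⟨ψ, rfl⟩
  have hχ' : χ ∉ blockOf M (ψ : G → ℂ) := by
    intro h
    apply hψ
    rw [IsPBlock.eq_blockOf hB hχ]
    exact SameBlock.symm h
  have h1 := mm_eq_zero_of_not_mem p hM hB' hχ' (mem_blockOf_self ψ)
  rw [mm_eq] at h1
  rcases mul_eq_zero.1 h1 with h | h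
  · exfalso
    have h2 : gz G p = 0 := by exact_mod_cast h
    exact not_dvd_compl (G := G) p (h2 ▸ dvd_zero p)
  · exact_mod_cast h

theorem degree_eq_sum_nn (χ : IrrCharacter G) : ∃ t : IrrCharacter G → ℕ,
    (charDegree (χ : G → ℂ) : ℤ) = ∑ ψ : IrrCharacter G, nn p χ ψ * t ψ := by
  classical
  obtain ⟨P⟩ : Nonempty (Sylow p G) := inferInstance
  have hone : IsCharacter P (fun _ => (1 : ℂ)) := IsIrrCharacter.isCharacter isIrrCharacter_one
  choose t ht using fun ψ : IrrCharacter G =>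
    IsCharacter.classInner_nat (IsCharacter.restrict (P : Subgroup G)
      (IsIrrCharacter.isCharacter ψ.2)) hone
  refine ⟨t, ?_⟩
  have hP0 : (Nat.card P : ℂ) ≠ 0 := by
    have : 0 < Nat.card P := Nat.card_pos
    exact_mod_cast this.ne'
  have hsum : ∀ ψ : IrrCharacter G, ∑ u : P, (ψ : G → ℂ) u = (Nat.card P : ℂ) * t ψ := by
    intro ψ
    have := ht ψ
    unfold classInner at this
    simp only [map_one, mul_one] at this
    rw [← this]
    field_simp
  have h1 : ∑ u : P, tilde p (χ : G → ℂ) u = (Nat.card P : ℂ) * (χ : G → ℂ) 1 := by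
    rw [Finset.sum_eq_single (1 : (P : Subgroup G))]
    · have h2 : ¬ p ∣ orderOf (((1 : (P : Subgroup G)) : G)) := by
        rw [OneMemClass.coe_one, orderOf_one]
        exact hp.out.one_lt.ne' ∘ Nat.dvd_one.mp
      unfold tilde
      rw [if_neg h2, P.card_eq_multiplicity]
      rfl
    · intro u _ hu
      obtain ⟨k, hk⟩ := (IsPGroup.iff_orderOf.1 P.2) u
      have hk0 : k ≠ 0 := by
        rintro rfl
        rw [pow_zero, orderOf_eq_one_iff] at hk
        exact hu hk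
      have h2 : p ∣ orderOf (u : G) := by
        rw [Subgroup.orderOf_coe, hk]; exact dvd_pow_self p hk0
      unfold tilde
      rw [if_pos h2]
    · intro h; exact absurd (Finset.mem_univ _) h
  rw [tilde_eq_sum] at h1
  simp only [Finset.sum_apply, Pi.smul_apply, smul_eq_mul] at h1
  rw [Finset.sum_comm] at h1
  simp only [← Finset.mul_sum, hsum] at h1
  have h3 : (Nat.card P : ℂ) * ∑ ψ : IrrCharacter G, (nn p χ ψ : ℂ) * t ψ
      = (Nat.card P : ℂ) * (χ : G → ℂ) 1 := by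
    rw [← h1, Finset.mul_sum]
    apply Finset.sum_congr rfl
    intro ψ _
    ring
  have h4 := mul_left_cancel₀ hP0 h3
  rw [← Cfsg.Agent.Lib.Helper24.charDegree_cast (IsIrrCharacter.isCharacter χ.2)] at h4
  exact_mod_cast h4.symm

theorem exists_not_dvd_nn (χ : IrrCharacter G) : ∃ ψ : IrrCharacter G,
    ¬ ((p ^ ((charDegree (χ : G → ℂ)).factorization p + 1) : ℕ) : ℤ) ∣ nn p χ ψ := by
  by_contra hcon
  push Not at hcon
  obtain ⟨t, ht⟩ := degree_eq_sum_nn p χ
  have h1 : ((p ^ ((charDegree (χ : G → ℂ)).factorization p + 1) : ℕ) : ℤ) ∣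
      (charDegree (χ : G → ℂ) : ℤ) := by
    rw [ht]
    apply Finset.dvd_sum
    intro ψ _
    exact Dvd.dvd.mul_right (hcon ψ) _
  have h2 : p ^ ((charDegree (χ : G → ℂ)).factorization p + 1) ∣ charDegree (χ : G → ℂ) := by
    exact_mod_cast h1
  exact Nat.pow_succ_factorization_not_dvd (Cfsg.Agent.Lib.Helper24.charDegree_pos χ.2).ne' hp.out h2

theorem sum_nn_sq (χ : IrrCharacter G) : (∑ ψ : IrrCharacter G, (nn p χ ψ) ^ 2 : ℤ)
    = ((p ^ (Nat.card G).factorization p : ℕ) : ℤ) * nn p χ χ := by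
  have hnorm : classInner (tilde p (χ : G → ℂ)) (tilde p (χ : G → ℂ))
      = ((∑ ψ : IrrCharacter G, (nn p χ ψ) ^ 2 : ℤ) : ℂ) := by
    conv_lhs => rw [tilde_eq_sum]
    rw [classInner_sum_irr]
    push_cast
    apply Finset.sum_congr rfl
    intro ψ _
    rw [map_intCast, pow_two]
  have hnorm2 : classInner (tilde p (χ : G → ℂ)) (tilde p (χ : G → ℂ))
      = ((p ^ (Nat.card G).factorization p : ℕ) : ℂ) * nn p χ χ := by
    rw [← nn_spec]
    unfold classInner
    rw [mul_left_comm]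
    congr 1
    rw [Finset.mul_sum]
    apply Finset.sum_congr rfl
    intro x _
    unfold tilde
    split_ifs
    · simp
    · rw [map_mul, map_natCast]; ring
  have := hnorm.symm.trans hnorm2
  exact_mod_cast this

theorem nn_self_pos (χ : IrrCharacter G) : 0 < nn p χ χ := by
  have h1 := sum_nn_sq p χ
  have hpa : (0 : ℤ) < ((p ^ (Nat.card G).factorization p : ℕ) : ℤ) := by
    have : 0 < p ^ (Nat.card G).factorization p := pow_pos hp.out.pos _
    exact_mod_cast this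
  have h2 : (0 : ℤ) ≤ ∑ ψ : IrrCharacter G, (nn p χ ψ) ^ 2 :=
    Finset.sum_nonneg fun ψ _ => sq_nonneg _
  rcases lt_trichotomy (nn p χ χ) 0 with h | h | h
  · exfalso; nlinarith
  · exfalso
    rw [h, mul_zero] at h1
    have h3 : ∀ ψ : IrrCharacter G, nn p χ ψ = 0 := by
      intro ψ
      have := (Finset.sum_eq_zero_iff_of_nonneg (fun ψ _ => sq_nonneg (nn p χ ψ))).1 h1 ψ
        (Finset.mem_univ ψ)
      exact pow_eq_zero_iff (two_ne_zero) |>.1 this
    obtain ⟨t, ht⟩ := degree_eq_sum_nn p χ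
    simp only [h3, zero_mul, Finset.sum_const_zero] at ht
    have := Cfsg.Agent.Lib.Helper24.charDegree_pos χ.2
    omega
  · exact h

theorem nn_self_le (χ : IrrCharacter G) :
    nn p χ χ ≤ ((p ^ (Nat.card G).factorization p : ℕ) : ℤ) := by
  have h1 := sum_nn_sq p χ
  have h2 : (nn p χ χ) ^ 2 ≤ ∑ ψ : IrrCharacter G, (nn p χ ψ) ^ 2 :=
    Finset.single_le_sum (f := fun ψ => (nn p χ ψ) ^ 2) (fun ψ _ => sq_nonneg _) (Finset.mem_univ χ)
  have h3 := nn_self_pos p χ
  rw [h1] at h2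
  nlinarith

/-- if `[χ̃,χ] = p^a` then `p^a ∣ χ(1)`. -/
theorem pow_dvd_degree_of_nn_self (χ : IrrCharacter G)
    (h : nn p χ χ = ((p ^ (Nat.card G).factorization p : ℕ) : ℤ)) :
    p ^ (Nat.card G).factorization p ∣ charDegree (χ : G → ℂ) := by
  classical
  have h1 := sum_nn_sq p χ
  rw [← Finset.add_sum_erase _ _ (Finset.mem_univ χ), h] at h1
  have h2 : ∑ ψ ∈ Finset.univ.erase χ, (nn p χ ψ) ^ 2 = 0 := by nlinarith
  have h3 : ∀ ψ ∈ Finset.univ.erase χ, nn p χ ψ = 0 := by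
    intro ψ hψ
    have := (Finset.sum_eq_zero_iff_of_nonneg (fun ψ _ => sq_nonneg (nn p χ ψ))).1 h2 ψ hψ
    exact pow_eq_zero_iff (two_ne_zero) |>.1 this
  obtain ⟨t, ht⟩ := degree_eq_sum_nn p χ
  rw [← Finset.add_sum_erase _ _ (Finset.mem_univ χ), h] at ht
  have h4 : ∑ ψ ∈ Finset.univ.erase χ, nn p χ ψ * (t ψ : ℤ) = 0 := by
    apply Finset.sum_eq_zero
    intro ψ hψ
    rw [h3 ψ hψ, zero_mul]
  rw [h4, add_zero] at ht
  have : ((p ^ (Nat.card G).factorization p : ℕ) : ℤ) ∣ (charDegree (χ : G → ℂ) : ℤ) := ⟨_, ht⟩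
  exact_mod_cast this

section height

variable {M : Ideal AlgInt}

theorem gz_ne_zero : ((gz G p : ℕ) : ℤ) ≠ 0 := by
  intro h
  have h2 : gz G p = 0 := by exact_mod_cast h
  exact not_dvd_compl (G := G) p (h2 ▸ dvd_zero p)

theorem not_dvd_al_iff (χ ξ : IrrCharacter G) : ¬ (p : ℤ) ∣ al p χ ξ ↔
    nn p χ ξ ≠ 0 ∧ padicValInt p (nn p χ ξ) = (charDegree (ξ : G → ℂ)).factorization p := by
  have hrel := al_mul p χ ξ
  have hpos := Cfsg.Agent.Lib.Helper24.charDegree_pos ξ.2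
  have hd0 : ((charDegree (ξ : G → ℂ) : ℕ) : ℤ) ≠ 0 := by exact_mod_cast hpos.ne'
  have hg0 := gz_ne_zero (G := G) p
  have hgv : padicValInt p ((gz G p : ℕ) : ℤ) = 0 := by
    apply padicValInt.eq_zero_of_not_dvd
    intro h
    exact not_dvd_compl (G := G) p (by exact_mod_cast h)
  have hdv : padicValInt p ((charDegree (ξ : G → ℂ) : ℕ) : ℤ)
      = (charDegree (ξ : G → ℂ)).factorization p := by
    rw [padicValInt.of_nat, Nat.factorization_def _ hp.out]
  constructor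
  · intro h
    have hal0 : al p χ ξ ≠ 0 := by
      rintro h0
      exact h (h0 ▸ dvd_zero _)
    have hn0 : nn p χ ξ ≠ 0 := by
      intro h0
      rw [h0, mul_zero] at hrel
      rcases mul_eq_zero.1 hrel with h1 | h1
      · exact hd0 h1
      · exact hal0 h1
    refine ⟨hn0, ?_⟩
    have h1 := congrArg (padicValInt p) hrel
    rw [padicValInt.mul hd0 hal0, padicValInt.mul hg0 hn0, hgv, hdv,
      padicValInt.eq_zero_of_not_dvd h] at h1
    omega
  · rintro ⟨hn0, hv⟩ h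
    have hal0 : al p χ ξ ≠ 0 := by
      intro h0
      rw [h0, mul_zero] at hrel
      rcases mul_eq_zero.1 hrel.symm with h1 | h1
      · exact hg0 h1
      · exact hn0 h1
    have h1 := congrArg (padicValInt p) hrel
    rw [padicValInt.mul hd0 hal0, padicValInt.mul hg0 hn0, hgv, hdv, hv] at h1
    have h2 : padicValInt p (al p χ ξ) = 0 := by omega
    rcases padicValInt.eq_zero_iff.1 h2 with h3 | h3 | h3
    · exact hp.out.ne_one h3
    · exact hal0 h3
    · exact h3 h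

theorem not_dvd_al_of_exists (hM : IsPModular p M) {B : Set (IrrCharacter G)} (hB : IsPBlock M B)
    (χ : IrrCharacter G) {ξ₀ : IrrCharacter G} (hξ₀ : ξ₀ ∈ B) (h : ¬ (p : ℤ) ∣ al p χ ξ₀)
    {ξ : IrrCharacter G} (hξ : ξ ∈ B) : ¬ (p : ℤ) ∣ al p χ ξ := by
  haveI := IsPModular.isPrime hM
  intro hd
  apply h
  have h1 := al_congr p hM χ (IsPBlock.sameBlock hB hξ₀ hξ)
  have := dvd_add h1 hd
  simpa using this

theorem not_dvd_al_of_height_zero (hM : IsPModular p M) {B : Set (IrrCharacter G)}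
    (hB : IsPBlock M B) {χ : IrrCharacter G} (hχ : χ ∈ B)
    (h0 : blockHeight p B (χ : G → ℂ) = 0) {ξ : IrrCharacter G} (hξ : ξ ∈ B) :
    ¬ (p : ℤ) ∣ al p χ ξ := by
  obtain ⟨ψ₀, hψ₀⟩ := exists_not_dvd_nn p χ
  have hψ₀B : ψ₀ ∈ B := by
    by_contra hc
    apply hψ₀
    rw [nn_eq_zero_of_not_mem p hM hB hχ hc]
    exact dvd_zero _
  apply not_dvd_al_of_exists p hM hB χ hψ₀B _ hξ
  intro hd
  apply hψ₀
  apply pow_dvd_of_dvd_compl_mul (G := G) p
  rw [← al_mul]
  have h1 : (charDegree (χ : G → ℂ)).factorization p ≤ (charDegree (ψ₀ : G → ℂ)).factorization p := by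
    unfold blockHeight at h0
    have h2 : sInf ((fun ψ : IrrCharacter G => (charDegree (ψ : G → ℂ)).factorization p) '' B)
        ≤ (charDegree (ψ₀ : G → ℂ)).factorization p := Nat.sInf_le ⟨ψ₀, hψ₀B, rfl⟩
    omega
  have h3 : ((p ^ (charDegree (χ : G → ℂ)).factorization p : ℕ) : ℤ) ∣
      ((charDegree (ψ₀ : G → ℂ) : ℕ) : ℤ) := by
    have : p ^ (charDegree (χ : G → ℂ)).factorization p ∣ charDegree (ψ₀ : G → ℂ) :=
      (pow_dvd_pow p h1).trans (Nat.ordProj_dvd _ _)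
    exact_mod_cast this
  have h4 := mul_dvd_mul h3 hd
  rw [pow_succ]
  push_cast at h4 ⊢
  exact h4

theorem height_zero_of_not_dvd_al (hM : IsPModular p M) {B : Set (IrrCharacter G)}
    (hB : IsPBlock M B) {χ : IrrCharacter G} {ξ : IrrCharacter G} (hξ : ξ ∈ B)
    (h : ¬ (p : ℤ) ∣ al p χ ξ) : blockHeight p B (χ : G → ℂ) = 0 := by
  have hne : ((fun ψ : IrrCharacter G => (charDegree (ψ : G → ℂ)).factorization p) '' B).Nonempty :=
    ⟨_, ξ, hξ, rfl⟩
  obtain ⟨ψ₁, hψ₁, he⟩ := Nat.sInf_mem hne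
  have h1 := not_dvd_al_of_exists p hM hB χ hξ h hψ₁
  obtain ⟨hn0, hv⟩ := (not_dvd_al_iff p χ ψ₁).1 h1
  have h2 := pow_dvd_nn p χ ψ₁
  push_cast at h2
  rcases (padicValInt_dvd_iff _ _).1 h2 with h3 | h3
  · exact absurd h3 hn0
  · unfold blockHeight
    rw [← he]
    simp only
    omega

end height

end Cfsg.Agent.Lib.Helper23.RegInner
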