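import Mathlib
import Cfsg.Prelude.Def_CaseTheorems
import Cfsg.Agent.Lib.Helper23.SylowCount
import Cfsg.Agent.Lib.Helper23.TwoMaxClass

set_option autoImplicit false

namespace Cfsg.Agent.Lib.Helper23

open scoped Pointwise

theorem isMulCommutative_of_sq_eq_one {G : Type*} [Group G] (h : ∀ x : G, x ^ 2 = 1) :
    IsMulCommutative G := by
  refine ⟨⟨fun a b => ?_⟩⟩
  have h1 := h (a * b)
  have h3 : a⁻¹ = a := by rw [inv_eq_iff_mul_eq_one, ← sq]; exact h a
  have h4 : b⁻¹ = b := by rw [inv_eq_iff_mul_eq_one, ← sq]; exact h b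
  rw [sq] at h1
  have h5 : a * b = (a * b)⁻¹ := eq_inv_of_mul_eq_one_left h1
  rw [h5, mul_inv_rev, h3, h4]

/-- An elementary abelian section `H/N` has order at most `2 ^ k`. -/
theorem relIndex_le_of_sectionalPRankLE {S : Type*} [Group S] {k : ℕ}
    (hr : Cfsg.SectionalPRankLE 2 k S) (H N : Subgroup S) (hNH : N ≤ H)
    (hnorm : H ≤ Subgroup.normalizer (N : Set S)) (hsq : ∀ x ∈ H, x ^ 2 ∈ N) :
    N.relIndex H ≤ 2 ^ k := by
  have hN : (N.subgroupOf H).Normal := (Subgroup.normal_subgroupOf_iff_le_normalizer hNH).mpr hnorm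
  have hsq' : ∀ q : H ⧸ N.subgroupOf H, q ^ 2 = 1 := by
    intro q
    obtain ⟨x, rfl⟩ := QuotientGroup.mk_surjective q
    rw [← QuotientGroup.mk_pow, QuotientGroup.eq_one_iff, Subgroup.mem_subgroupOf]
    exact hsq x x.2
  have hcomm := isMulCommutative_of_sq_eq_one hsq'
  have := hr H (N.subgroupOf H) ⊤ ⟨⟨fun a b => Subtype.ext (hcomm.is_comm.comm a.1 b.1)⟩⟩
    (fun a _ => hsq' a)
  rw [Subgroup.card_top] at this
  exact this

theorem card_sup_eq_mul {G : Type*} [Group G] [Finite G] (A B : Subgroup G)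
    (h : A ≤ Subgroup.normalizer (B : Set G)) (hd : A ⊓ B = ⊥) :
    Nat.card (A ⊔ B : Subgroup G) = Nat.card A * Nat.card B := by
  have h1 := Subgroup.relIndex_mul_relIndex ⊥ A (A ⊔ B) bot_le le_sup_left
  rw [relIndex_sup_of_le_normalizer A B h, ← Subgroup.inf_relIndex_right A B, hd,
    Subgroup.relIndex_bot_left, Subgroup.relIndex_bot_left, Subgroup.relIndex_bot_left] at h1
  exact h1.symm

theorem normalizer_inf_le_normalizer_sup {G : Type*} [Group G] (A B : Subgroup G) :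
    Subgroup.normalizer (A : Set G) ⊓ Subgroup.normalizer (B : Set G) ≤
      Subgroup.normalizer ((A ⊔ B : Subgroup G) : Set G) := by
  rintro g ⟨hA, hB⟩
  have hA' := (mem_normalizer_iff_conj_smul g A).mp hA
  have hB' := (mem_normalizer_iff_conj_smul g B).mp hB
  rw [mem_normalizer_iff_conj_smul, Subgroup.smul_sup, hA', hB']

/-- A nonabelian finite 2-group has a normal subgroup of index at least 4 containing all squares
(and the centre, if the centre has order 2). -/
theorem exists_normal_sq_mem {T : Type*} [Group T] [Finite T] (h2 : IsPGroup 2 T)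
    (hna : ¬ IsMulCommutative T) :
    ∃ N : Subgroup T, N.Normal ∧ (∀ x : T, x ^ 2 ∈ N) ∧ 4 * Nat.card N ≤ Nat.card T ∧
      (Nat.card (Subgroup.center T) = 2 → Subgroup.center T ≤ N) := by
  have : Fact (Nat.Prime 2) := ⟨Nat.prime_two⟩
  obtain ⟨t, ht⟩ := IsPGroup.iff_card.mp h2
  have ht0 : t ≠ 0 := by
    rintro rfl
    apply hna
    have : Subsingleton T := (Nat.card_eq_one_iff_unique.mp (by simpa using ht)).1
    exact ⟨⟨fun a b => Subsingleton.elim _ _⟩⟩
  obtain ⟨t, rfl⟩ := Nat.exists_eq_succ_of_ne_zero ht0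
  have hdvd : 2 ^ t ∣ Nat.card T := by rw [ht]; exact pow_dvd_pow 2 (Nat.le_succ t)
  obtain ⟨M1, hM1, -⟩ := Sylow.exists_subgroup_card_pow_prime_le 2 hdvd ⊥ (n := 0) (by simp)
    (Nat.zero_le t)
  have hidx : ∀ M : Subgroup T, Nat.card M = 2 ^ t → M.index = 2 := by
    intro M hM
    have := Subgroup.card_mul_index M
    rw [hM, ht, Nat.succ_eq_add_one, pow_succ] at this
    exact Nat.eq_of_mul_eq_mul_left (by positivity) this
  obtain ⟨x, hx⟩ : ∃ x, x ∉ M1 := by
    by_contra hcon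
    push Not at hcon
    have h1 : M1 = ⊤ := (Subgroup.eq_top_iff' M1).mpr hcon
    have h3 := hidx M1 hM1
    rw [h1, Subgroup.index_top] at h3
    norm_num at h3
  obtain ⟨j, hj⟩ := h2.exists_orderOf_eq_pow x
  have hjt : j ≤ t := by
    by_contra hcon
    have h1 : orderOf x ∣ 2 ^ (t + 1) := ht ▸ orderOf_dvd_natCard x
    rw [hj] at h1
    have h3 : j ≤ t + 1 := (Nat.pow_dvd_pow_iff_le_right (by norm_num)).mp h1
    have h5 : j = t + 1 := by omega
    apply hna
    have hcyc : IsCyclic T := isCyclic_of_orderOf_eq_card x (by rw [hj, h5, ht])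
    exact hcyc.isMulCommutative
  obtain ⟨M2, hM2, hxM2⟩ := Sylow.exists_subgroup_card_pow_prime_le 2 hdvd (Subgroup.zpowers x)
    (n := j) (by rw [Nat.card_zpowers, hj]) hjt
  have hn1 : M1.Normal := Subgroup.normal_of_index_eq_two (hidx M1 hM1)
  have hn2 : M2.Normal := Subgroup.normal_of_index_eq_two (hidx M2 hM2)
  have hsq : ∀ y : T, y ^ 2 ∈ M1 ⊓ M2 := by
    intro y
    rw [sq]
    exact ⟨(Subgroup.mul_mem_iff_of_index_two (hidx M1 hM1)).mpr Iff.rfl,
      (Subgroup.mul_mem_iff_of_index_two (hidx M2 hM2)).mpr Iff.rfl⟩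
  refine ⟨M1 ⊓ M2, inferInstance, hsq, ?_, ?_⟩
  · -- card
    have hlt : M1 ⊓ M2 < M2 := by
      refine lt_of_le_of_ne inf_le_right ?_
      intro h
      apply hx
      have : x ∈ M1 ⊓ M2 := by rw [h]; exact hxM2 (Subgroup.mem_zpowers x)
      exact this.1
    have hd : Nat.card (M1 ⊓ M2 : Subgroup T) ∣ 2 ^ t := hM2 ▸ Subgroup.card_dvd_of_le inf_le_right
    obtain ⟨i, hi, hi'⟩ := (Nat.dvd_prime_pow Nat.prime_two).mp hd
    have hit : i < t := by
      by_contra hcon
      have : i = t := by omega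
      have h1 : M1 ⊓ M2 = M2 := Subgroup.eq_of_le_of_card_ge inf_le_right (by rw [hi', hM2, this])
      exact hlt.ne h1
    rw [hi', ht]
    calc 4 * 2 ^ i = 2 ^ (i + 2) := by ring
      _ ≤ 2 ^ (t + 1) := Nat.pow_le_pow_right (by norm_num) (by omega)
  · intro hc
    have hne : M1 ⊓ M2 ≠ ⊥ := by
      intro h
      apply hna
      apply isMulCommutative_of_sq_eq_one
      intro y
      have := hsq y
      rwa [h, Subgroup.mem_bot] at this
    obtain ⟨z, hz', hzc, hz2⟩ := exists_central_involution_of_normal h2 (M1 ⊓ M2) hne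
    have h7 : Subgroup.zpowers z = Subgroup.center T :=
      Subgroup.eq_of_le_of_card_ge (Subgroup.zpowers_le.mpr hzc)
        (by rw [Nat.card_zpowers, hz2, hc])
    rw [← h7]
    exact Subgroup.zpowers_le.mpr hz'

/-- Version of `exists_normal_sq_mem` for a subgroup `P` of `S`. -/
theorem exists_sq_subgroup {S : Type*} [Group S] [Finite S] (h2 : IsPGroup 2 S) (P : Subgroup S)
    (hP : ¬ IsMulCommutative P) (hZ : Nat.card (Subgroup.center P) = 2) :
    ∃ N : Subgroup S, N ≤ P ∧ P ≤ Subgroup.normalizer (N : Set S) ∧ (∀ x ∈ P, x ^ 2 ∈ N) ∧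
      4 * Nat.card N ≤ Nat.card P ∧ (∀ x ∈ P, (∀ y ∈ P, x * y = y * x) → x ∈ N) := by
  obtain ⟨N0, hn, hsq, hcard, hcen⟩ := exists_normal_sq_mem (h2.to_subgroup P) hP
  refine ⟨N0.map P.subtype, Subgroup.map_subtype_le N0, ?_, ?_, ?_, ?_⟩
  · have := Subgroup.le_normalizer_map (H := N0) P.subtype
    rw [Subgroup.normalizer_eq_top, ← MonoidHom.range_eq_map, Subgroup.range_subtype] at this
    exact this
  · intro x hx
    exact ⟨⟨x, hx⟩ ^ 2, hsq _, rfl⟩
  · rw [Subgroup.card_subtype]; exact hcard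
  · intro x hx hxc
    refine ⟨⟨x, hx⟩, hcen hZ ?_, rfl⟩
    rw [Subgroup.mem_center_iff]
    intro y
    exact Subtype.ext (hxc y y.2).symm

end Cfsg.Agent.Lib.Helper23
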