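import Mathlib
import Cfsg.Prelude.Def_Blocks
import Cfsg.Agent.Lib.Helper6.DefectOrder
import Cfsg.Agent.Lib.Helper24.ClassCount

set_option autoImplicit false

namespace Cfsg.Agent.Lib.Helper23.Separated

open Cfsg Cfsg.Agent.Lib.Helper2 Cfsg.Agent.Lib.Helper6 Cfsg.Agent.Lib.Helper24
open scoped ComplexConjugate

attribute [local instance] irrFintype

section det

variable {M : Ideal AlgInt} [M.IsPrime] {n : Type*} [Fintype n] [DecidableEq n]

theorem det_memLocalRing {X : Matrix n n ℂ} (h : ∀ i j, MemLocalRing M (X i j)) :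
    MemLocalRing M X.det := by
  rw [Matrix.det_apply']
  apply MemLocalRing.sum
  intro σ _
  apply MemLocalRing.mul
  · exact memLocalRing_intCast _
  · exact MemLocalRing.prod _ (fun i _ => h _ _)

theorem det_memLocalIdeal_of_col {X : Matrix n n ℂ} (h : ∀ i j, MemLocalRing M (X i j)) (k : n)
    (hk : ∀ i, MemLocalIdeal M (X i k)) : MemLocalIdeal M X.det := by
  rw [Matrix.det_apply']
  apply MemLocalIdeal.sum
  intro σ _
  apply MemLocalIdeal.mul_left (memLocalRing_intCast _)
  rw [← Finset.mul_prod_erase _ _ (Finset.mem_univ k)]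
  exact MemLocalIdeal.mul_right (hk _) (MemLocalRing.prod _ fun i _ => h _ _)

theorem det_memLocalIdeal_of_col_congr {X : Matrix n n ℂ} (h : ∀ i j, MemLocalRing M (X i j))
    {k k' : n} (hkk : k ≠ k') (hc : ∀ i, MemLocalIdeal M (X i k - X i k')) :
    MemLocalIdeal M X.det := by
  rw [← Matrix.det_updateCol_add_smul_self X hkk (-1)]
  apply det_memLocalIdeal_of_col _ k
  · intro i
    rw [Matrix.updateCol_self]
    have : X i k + (-1 : ℂ) • X i k' = X i k - X i k' := by simp [sub_eq_add_neg]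
    rw [this]
    exact hc i
  · intro i j
    by_cases hj : j = k
    · subst hj
      rw [Matrix.updateCol_self]
      have : X i j + (-1 : ℂ) • X i k' = X i j - X i k' := by simp [sub_eq_add_neg]
      rw [this]
      exact MemLocalIdeal.memLocalRing (hc i)
    · rw [Matrix.updateCol_ne hj]
      exact h i j

theorem prod_congr_mod {ι : Type*} (s : Finset ι) {f g : ι → ℂ}
    (hf : ∀ i ∈ s, MemLocalRing M (f i)) (hg : ∀ i ∈ s, MemLocalRing M (g i))
    (h : ∀ i ∈ s, MemLocalIdeal M (f i - g i)) :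
    MemLocalIdeal M (∏ i ∈ s, f i - ∏ i ∈ s, g i) := by
  classical
  induction s using Finset.induction_on with
  | empty => simpa using memLocalIdeal_zero
  | insert a s ha ih =>
    rw [Finset.prod_insert ha, Finset.prod_insert ha]
    have e : f a * ∏ i ∈ s, f i - g a * ∏ i ∈ s, g i
        = (f a - g a) * ∏ i ∈ s, f i + g a * (∏ i ∈ s, f i - ∏ i ∈ s, g i) := by ring
    rw [e]
    apply MemLocalIdeal.add
    · exact MemLocalIdeal.mul_right (h a (Finset.mem_insert_self a s))
        (MemLocalRing.prod _ fun i hi => hf i (Finset.mem_insert_of_mem hi))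
    · exact MemLocalIdeal.mul_left (hg a (Finset.mem_insert_self a s))
        (ih (fun i hi => hf i (Finset.mem_insert_of_mem hi))
          (fun i hi => hg i (Finset.mem_insert_of_mem hi))
          (fun i hi => h i (Finset.mem_insert_of_mem hi)))

theorem det_congr_mod {X Y : Matrix n n ℂ} (hX : ∀ i j, MemLocalRing M (X i j))
    (hY : ∀ i j, MemLocalRing M (Y i j)) (h : ∀ i j, MemLocalIdeal M (X i j - Y i j)) :
    MemLocalIdeal M (X.det - Y.det) := by
  rw [Matrix.det_apply', Matrix.det_apply', ← Finset.sum_sub_distrib]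
  apply MemLocalIdeal.sum
  intro σ _
  rw [← mul_sub]
  apply MemLocalIdeal.mul_left (memLocalRing_intCast _)
  exact prod_congr_mod _ (fun i _ => hX _ _) (fun i _ => hY _ _) (fun i _ => h _ _)

omit [M.IsPrime] in
theorem det_mul_rect {m : Type*} [Fintype m] [DecidableEq m] (W : Matrix n m ℂ)
    (A : Matrix m n ℂ) :
    (W * A).det = ∑ f : n → m, (∏ k, A (f k) k) * (Matrix.of fun i k => W i (f k)).det := by
  calc (W * A).det = ∑ q : n → m, ∑ σ : Equiv.Perm n,
        ((Equiv.Perm.sign σ : ℤ) : ℂ) * ∏ i, W (σ i) (q i) * A (q i) i := by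
        simp only [Matrix.det_apply', Matrix.mul_apply, Finset.prod_univ_sum, Finset.mul_sum,
          Fintype.piFinset_univ]
        rw [Finset.sum_comm]
    _ = _ := by
        apply Finset.sum_congr rfl
        intro f _
        rw [Matrix.det_apply', Finset.mul_sum]
        apply Finset.sum_congr rfl
        intro σ _
        rw [Finset.prod_mul_distrib]
        simp only [Matrix.of_apply]
        ring

end det

section count

variable {G : Type*} [Group G] [Fintype G]

theorem exists_mult (P : Subgroup G) (χ : IrrCharacter G) : ∃ m : ℕ,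
    ∀ [DecidablePred (· ∈ P)],
      ∑ z : G, (if z ∈ P then conj ((χ : G → ℂ) z) else 0) = (Nat.card P : ℂ) * m := by
  classical
  obtain ⟨m, hm⟩ := sum_subgroup_conj_nat P (IsIrrCharacter.isCharacter χ.2)
  refine ⟨m, ?_⟩
  intro inst
  rw [← hm]
  apply Finset.sum_congr rfl
  intro z _
  by_cases hz : z ∈ P
  · rw [if_pos hz, if_pos hz]
  · rw [if_neg hz, if_neg hz]

/-- the multiplicity of the trivial character in `χ|_P` -/
noncomputable def mult (P : Subgroup G) (χ : IrrCharacter G) : ℕ := (exists_mult P χ).choose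

theorem mult_spec (P : Subgroup G) [DecidablePred (· ∈ P)] (χ : IrrCharacter G) :
    ∑ z : G, (if z ∈ P then conj ((χ : G → ℂ) z) else 0) = (Nat.card P : ℂ) * mult P χ :=
  (exists_mult P χ).choose_spec

/-- general counting formula -/
theorem sum_cnt_eq (P : Subgroup G) [DecidablePred (· ∈ P)] (x y : G) :
    ∑ z : G, (if z ∈ P then
      (Nat.card {q : G × G // IsConj x q.1 ∧ IsConj y⁻¹ q.2 ∧ q.1 * q.2 = z} : ℂ) else 0)
    = (Nat.card G : ℂ)⁻¹ * (Nat.card P : ℂ) * ((cen y).index : ℂ) *
      ∑ χ : IrrCharacter G, centralChar (χ : G → ℂ) x *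
        ((mult P χ : ℂ) * conj ((χ : G → ℂ) y)) := by
  classical
  simp only [card_pairs_eq]
  have : ∀ z : G, (if z ∈ P then (Nat.card G : ℂ)⁻¹ * ∑ χ : IrrCharacter G,
        (centralChar (χ : G → ℂ) x * centralChar (χ : G → ℂ) y⁻¹) *
          ((χ : G → ℂ) 1 * conj ((χ : G → ℂ) z)) else 0) =
        (Nat.card G : ℂ)⁻¹ * ∑ χ : IrrCharacter G,
        (centralChar (χ : G → ℂ) x * centralChar (χ : G → ℂ) y⁻¹ * (χ : G → ℂ) 1) *
          (if z ∈ P then conj ((χ : G → ℂ) z) else 0) := by
    intro z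
    split_ifs
    · congr 1
      apply Finset.sum_congr rfl
      intro χ _
      ring
    · simp
  simp only [this]
  rw [← Finset.mul_sum, Finset.sum_comm, mul_assoc, mul_assoc]
  congr 1
  rw [Finset.mul_sum, Finset.mul_sum]
  refine Finset.sum_congr rfl fun χ _ => ?_
  rw [← Finset.mul_sum, mult_spec P χ]
  have h1 : (χ : G → ℂ) 1 ≠ 0 := irr_one_ne_zero χ.2
  simp only [centralChar, Cfsg.Agent.Lib.Helper24.centralizer_inv]
  rw [IsCharacter.apply_inv (IsIrrCharacter.isCharacter χ.2)]
  field_simp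

theorem isConj_inv' {a b : G} (h : IsConj a⁻¹ b) : IsConj a b⁻¹ := by
  obtain ⟨c, hc⟩ := isConj_iff.mp h
  exact isConj_iff.mpr ⟨c, by rw [← hc]; group⟩

open scoped Classical in
/-- orthogonality-type relation for separated classes -/
theorem sum_eq_of_separated (P : Subgroup G) (x y : G)
    (hsep : ∀ g h : G, IsConj x g → IsConj y h → g * h⁻¹ ∈ P → g * h⁻¹ = 1) :
    ∑ χ : IrrCharacter G, centralChar (χ : G → ℂ) x *
        ((mult P χ : ℂ) * conj ((χ : G → ℂ) y)) = if IsConj x y then (P.index : ℂ) else 0 := by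
  have h := sum_cnt_eq P x y
  have hk0 : ((cen y).index : ℂ) ≠ 0 := index_centralizer_ne_zero y
  have hG0 : (Nat.card G : ℂ) ≠ 0 := card_ne_zero_complex
  have hP0 : (Nat.card P : ℂ) ≠ 0 := card_subgroup_ne_zero P
  have ha : ∀ z ∈ P, z ≠ 1 →
      Nat.card {q : G × G // IsConj x q.1 ∧ IsConj y⁻¹ q.2 ∧ q.1 * q.2 = z} = 0 := by
    intro z hz hz1
    haveI : IsEmpty {q : G × G // IsConj x q.1 ∧ IsConj y⁻¹ q.2 ∧ q.1 * q.2 = z} := by
      constructor
      rintro ⟨⟨g, h⟩, h1, h2, h3⟩
      simp only at h1 h2 h3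
      have := hsep g h⁻¹ h1 (isConj_inv' h2) (by rw [inv_inv, h3]; exact hz)
      rw [inv_inv, h3] at this
      exact hz1 this
    exact Nat.card_of_isEmpty
  have hb : Nat.card {q : G × G // IsConj x q.1 ∧ IsConj y⁻¹ q.2 ∧ q.1 * q.2 = 1}
      = if IsConj x y then (cen y).index else 0 := by
    split_ifs with hxy
    · rw [← card_isConj_eq_index]
      refine Nat.card_congr ⟨fun q => ⟨q.1.1, hxy.symm.trans q.2.1⟩,
        fun g => ⟨(g.1, g.1⁻¹), hxy.trans g.2, ?_, by simp⟩, ?_, ?_⟩
      · obtain ⟨c, hc⟩ := isConj_iff.mp g.2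
        exact isConj_iff.mpr ⟨c, by rw [← hc]; group⟩
      · rintro ⟨⟨g, h⟩, h1, h2, h3⟩
        simp only at h3
        simp only [Subtype.mk.injEq, Prod.mk.injEq, true_and]
        exact inv_eq_of_mul_eq_one_right h3
      · rintro ⟨g, hg⟩
        rfl
    · haveI : IsEmpty {q : G × G // IsConj x q.1 ∧ IsConj y⁻¹ q.2 ∧ q.1 * q.2 = 1} := by
        constructor
        rintro ⟨⟨g, h⟩, h1, h2, h3⟩
        simp only at h1 h2 h3
        apply hxy
        have h4 : h⁻¹ = g := (eq_inv_of_mul_eq_one_left h3).symm ▸ rfl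
        have h5 := isConj_inv' h2
        rw [h4] at h5
        exact h1.trans h5.symm
      exact Nat.card_of_isEmpty
  have hsum : ∑ z : G, (if z ∈ P then
      (Nat.card {q : G × G // IsConj x q.1 ∧ IsConj y⁻¹ q.2 ∧ q.1 * q.2 = z} : ℂ) else 0)
      = if IsConj x y then ((cen y).index : ℂ) else 0 := by
    rw [Finset.sum_eq_single (1 : G)]
    · rw [if_pos P.one_mem, hb]
      split_ifs <;> simp
    · intro z _ hz1
      by_cases hz : z ∈ P
      · rw [if_pos hz, ha z hz hz1]; simp
      · rw [if_neg hz]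
    · intro h; exact absurd (Finset.mem_univ _) h
  rw [hsum] at h
  have hidx : (P.index : ℂ) = (Nat.card G : ℂ) / (Nat.card P : ℂ) := by
    rw [eq_div_iff hP0]
    exact_mod_cast P.index_mul_card
  set S := ∑ χ : IrrCharacter G, centralChar (χ : G → ℂ) x *
        ((mult P χ : ℂ) * conj ((χ : G → ℂ) y)) with hS
  split_ifs at h ⊢ with hxy
  · rw [hidx]
    field_simp
    field_simp at h
    linear_combination -h
  · have h2 : (Nat.card G : ℂ)⁻¹ * (Nat.card P : ℂ) * ((cen y).index : ℂ) ≠ 0 := by positivity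
    exact (mul_eq_zero.1 h.symm).resolve_left h2

end count

section select

variable {G : Type*} [Group G] [Fintype G] {M : Ideal AlgInt} {p : ℕ}

theorem exists_selection [Fact p.Prime] (hM : IsPModular p M) {r : ℕ} (x : Fin r → G)
    (hx : ∀ i j : Fin r, IsConj (x i) (x j) → i = j)
    (hsep : ∀ i j : Fin r, ∀ g h : G, IsConj (x i) g → IsConj (x j) h →
      ∀ k : ℕ, 0 < k → orderOf (g * h⁻¹) ≠ p ^ k) :
    ∃ f : Fin r → IrrCharacter G,
      ¬ MemLocalIdeal M (Matrix.of fun i k => centralChar (f k : G → ℂ) (x i)).det ∧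
      ∀ k, ¬ MemLocalIdeal M (conj ((f k : G → ℂ) (x k))) := by
  classical
  have := IsPModular.isPrime hM
  obtain ⟨P⟩ : Nonempty (Sylow p G) := inferInstance
  set W : Matrix (Fin r) (IrrCharacter G) ℂ :=
    Matrix.of fun i χ => centralChar (χ : G → ℂ) (x i) with hW
  set A : Matrix (IrrCharacter G) (Fin r) ℂ :=
    Matrix.of fun χ j => (mult (P : Subgroup G) χ : ℂ) * conj ((χ : G → ℂ) (x j)) with hA
  have hWloc : ∀ i χ, MemLocalRing M (W i χ) := fun i χ =>
    memLocalRing_of_isIntegral (centralChar_isIntegral χ.2 _)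
  have hconj : ∀ (χ : IrrCharacter G) (g : G), MemLocalRing M (conj ((χ : G → ℂ) g)) := by
    intro χ g
    exact memLocalRing_of_isIntegral
      (char_isIntegral (IsCharacter.conj (IsIrrCharacter.isCharacter χ.2)) g)
  have hAloc : ∀ χ j, MemLocalRing M (A χ j) := fun χ j =>
    MemLocalRing.mul (memLocalRing_natCast _) (hconj χ _)
  have hWA : W * A = ((P : Subgroup G).index : ℂ) • (1 : Matrix (Fin r) (Fin r) ℂ) := by
    ext i j
    rw [Matrix.mul_apply, Matrix.smul_apply, Matrix.one_apply]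
    have h1 := sum_eq_of_separated (P : Subgroup G) (x i) (x j) (by
      intro g h hg hh hmem
      obtain ⟨k, hk⟩ := (IsPGroup.iff_orderOf.1 P.2) ⟨g * h⁻¹, hmem⟩
      rw [Subgroup.orderOf_mk] at hk
      rcases Nat.eq_zero_or_pos k with h0 | h0
      · rw [h0, pow_zero, orderOf_eq_one_iff] at hk
        exact hk
      · exact absurd hk (hsep i j g h hg hh k h0))
    simp only [hW, hA, Matrix.of_apply]
    rw [h1]
    by_cases hij : i = j
    · subst hij
      rw [if_pos (IsConj.refl _), if_pos rfl]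
      simp
    · rw [if_neg (fun h => hij (hx i j h)), if_neg hij]
      simp
  have hdet : (W * A).det = ((P : Subgroup G).index : ℂ) ^ r := by
    rw [hWA, Matrix.det_smul, Matrix.det_one, mul_one, Fintype.card_fin]
  have hnot : ¬ MemLocalIdeal M ((W * A).det) := by
    rw [hdet]
    intro h
    have h2 := MemLocalIdeal.of_pow (memLocalRing_natCast _) h
    rw [memLocalIdeal_natCast_iff hM] at h2
    exact P.not_dvd_index h2
  rw [det_mul_rect] at hnot
  by_contra hcon
  push Not at hcon
  apply hnot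
  apply MemLocalIdeal.sum
  intro f _
  have hdl : MemLocalRing M (Matrix.of fun i k => W i (f k)).det :=
    det_memLocalRing (fun i k => hWloc _ _)
  by_cases hd : MemLocalIdeal M (Matrix.of fun i k => W i (f k)).det
  · exact MemLocalIdeal.mul_left (MemLocalRing.prod _ fun k _ => hAloc _ _) hd
  · obtain ⟨k, hk⟩ := hcon f hd
    apply MemLocalIdeal.mul_right _ hdl
    rw [← Finset.mul_prod_erase _ _ (Finset.mem_univ k)]
    apply MemLocalIdeal.mul_right _ (MemLocalRing.prod _ fun k _ => hAloc _ _)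
    exact MemLocalIdeal.mul_left (memLocalRing_natCast _) hk

theorem factorization_degree_le_of_conj_unit [Fact p.Prime] (hM : IsPModular p M)
    (χ : IrrCharacter G) {v : G} (hv : ¬ MemLocalIdeal M (conj ((χ : G → ℂ) v))) :
    (charDegree (χ : G → ℂ)).factorization p ≤ (cen v).index.factorization p := by
  have := IsPModular.isPrime hM
  by_contra hcon
  push Not at hcon
  apply hv
  have h1 := centralChar_eq_div χ v⁻¹
  rw [cen, Cfsg.Agent.Lib.Helper24.centralizer_inv,
    IsCharacter.apply_inv (IsIrrCharacter.isCharacter χ.2)] at h1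
  have hd0 : ((charDegree (χ : G → ℂ) : ℕ) : ℂ) ≠ 0 := by
    exact_mod_cast (charDegree_pos χ.2).ne'
  have hi0 : (((cen v).index : ℕ) : ℂ) ≠ 0 := index_centralizer_ne_zero v
  have h2 : conj ((χ : G → ℂ) v) = ((charDegree (χ : G → ℂ) : ℕ) : ℂ) / (((cen v).index : ℕ) : ℂ)
      * centralChar (χ : G → ℂ) v⁻¹ := by
    rw [h1]
    field_simp
  rw [h2]
  exact MemLocalIdeal.mul_right (memLocalIdeal_natCast_div hM (charDegree_pos χ.2).ne'
    (index_cen_ne_zero v) hcon) (memLocalRing_of_isIntegral (centralChar_isIntegral χ.2 _))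

theorem isDefectGroup_of_units [Fact p.Prime] (hM : IsPModular p M) (χ : IrrCharacter G)
    {D : Subgroup G} {u v : G} (hu : ¬ MemLocalIdeal M (centralChar (χ : G → ℂ) u))
    (hDu : IsSylIn p (cen u) D) (hv : ¬ MemLocalIdeal M (conj ((χ : G → ℂ) v)))
    (hDv : IsSylIn p (cen v) D) : IsDefectGroup p M (blockOf M (χ : G → ℂ)) D := by
  have := IsPModular.isPrime hM
  have hpr : p.Prime := Fact.out
  set B := blockOf M (χ : G → ℂ) with hBdef
  have hB : IsPBlock M B := ⟨χ, rfl⟩
  have hχ : χ ∈ B := mem_blockOf_self χ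
  obtain ⟨D', hD'⟩ := exists_isDefectGroup hM hB
  obtain ⟨g, hg, hD'g⟩ := isDefectGroup_iff.mp hD'
  have hk := not_memLocalIdeal_centralChar_of_exists hB ⟨χ, hχ, hu⟩
  obtain ⟨t, ht⟩ := exists_le_cj_of_unit hM hB hk (isDefectClass_iff.mp hg).2.1 hD'g.isPGroup
    hD'g.le hDu
  have hc1 := IsDefectGroup.card_eq hM hB hD'
  have hc2 := hDv.card
  have h3 := factorization_degree_le_of_conj_unit hM χ hv
  have h4 := factorization_card_eq (p := p) v
  have h5 : (Nat.card (cen v)).factorization p ≤ blockDefect p B := by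
    unfold blockDefect
    have h6 : sInf ((fun ψ : IrrCharacter G => (charDegree (ψ : G → ℂ)).factorization p) '' B)
        ≤ (charDegree (χ : G → ℂ)).factorization p := Nat.sInf_le ⟨χ, hχ, rfl⟩
    omega
  have h7 : D' = cj t D := by
    apply Subgroup.eq_of_le_of_card_ge ht
    rw [card_cj, hc1, hc2]
    exact Nat.pow_le_pow_right hpr.pos h5
  have h8 : D = cj t⁻¹ D' := by
    rw [h7, cj_cj, inv_mul_cancel, cj_one]
  rw [h8]
  exact isDefectGroup_cj hD' t⁻¹

end select

end Cfsg.Agent.Lib.Helper23.Separated
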